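import Cfsg.Agent.Lib.ThreeLocal66.Frame

/-!
# Two `3² : GL(2,3)` with common normaliser of the centre of a Sylow three-subgroup: coordinates
-/

namespace Cfsg.Agent.Lib.ThreeLocal66.Amalgam

open Subgroup
open Cfsg.Agent.Lib.Suborbit46.GL23

theorem dS_e1 : act dS (1, 0) = (0, 1) := by decide

theorem dR_e1 : act dR (1, 0) = -(1, 0) := by decide

theorem dR_e2 : act dR (0, 1) = (0, 1) := by decide

/-- One side of the amalgam. -/
structure Side {G : Type*} [Group G] (A O : Subgroup G) : Prop where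
  card : Nat.card A = 432
  le : O ≤ A
  norm : ∀ h ∈ A, ∀ x ∈ O, h * x * h⁻¹ ∈ O
  card_O : Nat.card O = 9
  cube : ∀ x ∈ O, x * x * x = 1
  comm : ∀ x ∈ O, ∀ y ∈ O, x * y = y * x
  self : ∀ h ∈ A, (∀ x ∈ O, h * x = x * h) → h ∈ O

/-- The amalgam. -/
structure Setting {G : Type*} [Group G] (A B OA OB Z S : Subgroup G) : Prop where
  sA : Side A OA
  sB : Side B OB
  gen : A ⊔ B = ⊤
  ne : OA ≠ OB
  card_S : Nat.card S = 27
  S_A : S ≤ A
  S_B : S ≤ B
  OA_S : OA ≤ S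
  OB_S : OB ≤ S
  mem_Z : ∀ x, x ∈ Z ↔ x ∈ S ∧ ∀ y ∈ S, x * y = y * x
  NZ : Subgroup.normalizer (Z : Set G) ≤ A ⊓ B

variable {G : Type*} [Group G] [Finite G] {A B OA OB Z S : Subgroup G}

namespace Setting

variable (T : Setting A B OA OB Z S)
include T

theorem Z_le : Z ≤ OA ⊓ OB := fun x hx => by
  obtain ⟨hS, hc⟩ := (T.mem_Z x).1 hx
  exact ⟨T.sA.self x (T.S_A hS) fun y hy => hc y (T.OA_S hy),
    T.sB.self x (T.S_B hS) fun y hy => hc y (T.OB_S hy)⟩

theorem Z_ne : Z ≠ ⊥ := by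
  have : Fact (Nat.Prime 3) := ⟨Nat.prime_three⟩
  have hp : IsPGroup 3 S := IsPGroup.of_card (n := 3) (by rw [T.card_S]; norm_num)
  have : Nontrivial S := by
    refine Finite.one_lt_card_iff_nontrivial.1 ?_
    rw [T.card_S]; norm_num
  have := hp.center_nontrivial
  obtain ⟨⟨c, hc⟩, hc1⟩ := exists_ne (1 : Subgroup.center S)
  intro h
  apply hc1
  have hmem : (c : G) ∈ Z := (T.mem_Z _).2 ⟨c.2, fun y hy =>
    (congrArg Subtype.val (mem_center_iff.1 hc ⟨y, hy⟩)).symm⟩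
  rw [h, mem_bot] at hmem
  exact Subtype.ext (Subtype.ext hmem)

theorem inter_card : Nat.card Z = 3 ∧ Z = OA ⊓ OB := by
  have h1 : Nat.card (OA ⊓ OB : Subgroup G) ∣ 9 := T.sA.card_O ▸ card_dvd_of_le inf_le_left
  have h2 : Nat.card (OA ⊓ OB : Subgroup G) ≠ 9 := by
    intro h
    apply T.ne
    have e1 : OA ⊓ OB = OA := eq_of_le_of_card_ge inf_le_left (by rw [h, T.sA.card_O])
    have e2 : OA ⊓ OB = OB := eq_of_le_of_card_ge inf_le_right (by rw [h, T.sB.card_O])
    exact e1.symm.trans e2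
  have h3 : Nat.card Z ∣ Nat.card (OA ⊓ OB : Subgroup G) := card_dvd_of_le T.Z_le
  have h4 : Nat.card Z ≠ 1 := fun h => T.Z_ne (Subgroup.card_eq_one.1 h)
  have h5 : Nat.card (OA ⊓ OB : Subgroup G) = 3 := by
    have hd : Nat.card (OA ⊓ OB : Subgroup G) ∈ Nat.divisors 9 := Nat.mem_divisors.2 ⟨h1, by norm_num⟩
    rw [show Nat.divisors 9 = {1, 3, 9} by decide] at hd
    simp only [Finset.mem_insert, Finset.mem_singleton] at hd
    rcases hd with e | e | e
    · rw [e, Nat.dvd_one] at h3; exact absurd h3 h4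
    · exact e
    · exact absurd e h2
  have h6 : Nat.card Z = 3 := by
    rw [h5] at h3
    exact ((Nat.dvd_prime Nat.prime_three).1 h3).resolve_left h4
  exact ⟨h6, eq_of_le_of_card_ge T.Z_le (by rw [h5, h6])⟩

omit [Finite G] in
theorem cent_Z {z x : G} (hz : Z = zpowers z) (h : x * z = z * x) : x ∈ A ∧ x ∈ B := by
  refine mem_inf.1 (T.NZ (mem_normalizer_iff.2 fun y => ?_))
  rw [hz]
  constructor
  · intro hy
    obtain ⟨k, rfl⟩ := hy
    show x * z ^ k * x⁻¹ ∈ zpowers z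
    rw [((show Commute x z from h).zpow_right k).eq, mul_inv_cancel_right]
    exact zpow_mem (mem_zpowers z) k
  · intro hy
    obtain ⟨k, hk⟩ := hy
    change z ^ k = x * y * x⁻¹ at hk
    have e : y = z ^ k := by
      calc y = x⁻¹ * (x * y * x⁻¹) * x := by group
        _ = z ^ k := by rw [← hk, mul_assoc, ← ((show Commute x z from h).zpow_right k).eq,
            inv_mul_cancel_left]
    rw [e]; exact zpow_mem (mem_zpowers z) k

end Setting

/-- The coordinates. -/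
structure Coords (A B OA OB Z : Subgroup G) (t r u q g z w : G) where
  FA : Frame A OA
  FB : Frame B OB
  Z_eq : Z = zpowers z
  vA : FA.vec (1, 0) = z
  vB1 : FB.vec (1, 0) = u
  vB2 : FB.vec (0, 1) = z
  tA : t ∈ A
  tB : t ∈ B
  rA : r ∈ A
  rB : r ∈ B
  qA : q ∈ A
  gB : g ∈ B
  uA : u ∈ A
  u_notA : u ∉ OA
  mAt : FA.m t = neg4
  mBt : FB.m t = dT
  mBr : FB.m r = dR
  mBg : FB.m g = dS
  tt : t * t = 1
  t_ne : t ≠ 1
  rr : r * r = 1
  gg : g * g = 1
  rt : r * t = t * r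
  ut : u * t = t * u
  rur : r * u * r = u⁻¹
  rz : r * z * r = z
  gtg : g * t * g = r
  gug : g * u * g = z
  qq : q * q = t
  rqr : r * q * r = q⁻¹
  qv : q * (u * q * u⁻¹) = (u * q * u⁻¹) * q * t
  qn : q * (u * q * u⁻¹) * (u⁻¹ * q * u) = 1
  w_mem : w ∈ OA
  w_notZ : w ∉ Z
  rwr : r * w * r = w⁻¹

theorem exists_coords (T : Setting A B OA OB Z S) :
    ∃ t r u q g z w, Nonempty (Coords A B OA OB Z t r u q g z w) := by
  classical
  obtain ⟨hZc, hZi⟩ := T.inter_card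
  have : Fact (Nat.Prime 3) := ⟨Nat.prime_three⟩
  obtain ⟨⟨z, hz⟩, hzo⟩ := exists_prime_orderOf_dvd_card' (G := Z) 3 (by rw [hZc])
  rw [Subgroup.orderOf_mk] at hzo
  have hz1 : z ≠ 1 := fun h => by rw [h, orderOf_one] at hzo; norm_num at hzo
  have hZeq : Z = zpowers z :=
    (eq_of_le_of_card_ge (zpowers_le.2 hz) (by rw [hZc, Nat.card_zpowers, hzo])).symm
  have hzA : z ∈ OA := (T.Z_le hz).1
  have hzB : z ∈ OB := (T.Z_le hz).2
  obtain ⟨a, haA, haZ⟩ : ∃ a ∈ OA, a ∉ Z := by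
    by_contra h
    simp only [not_exists, not_and, not_not] at h
    have := card_le_of_le (h : OA ≤ Z)
    rw [T.sA.card_O, hZc] at this
    omega
  obtain ⟨FA, hA1, -⟩ := exists_frame T.sA.le T.sA.norm T.sA.card_O T.sA.card T.sA.cube T.sA.comm
    T.sA.self hzA haA hz1 (hZeq ▸ haZ)
  obtain ⟨t, htA, hmt, htt⟩ := FA.exists_minus
  have htne : t ≠ 1 := fun h => by
    rw [h, FA.m_one] at hmt; exact absurd hmt (by decide)
  have hti : t⁻¹ = t := inv_eq_of_mul_eq_one_right htt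
  have htz : t * z * t = z⁻¹ := FA.minus_conj htA hmt htt hzA
  have htN : t ∈ Subgroup.normalizer (Z : Set G) := by
    have hf : ∀ y ∈ Z, t * y * t⁻¹ ∈ Z := fun y hy => by
      rw [hti, FA.minus_conj htA hmt htt (T.Z_le hy).1]; exact Z.inv_mem hy
    refine mem_normalizer_iff.2 fun y => ⟨hf y, fun hy => ?_⟩
    have h := hf _ hy
    rwa [hti, show t * (t * y * t) * t = (t * t) * y * (t * t) by group, htt, one_mul, mul_one] at h
  have htB : t ∈ B := (mem_inf.1 (T.NZ htN)).2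
  obtain ⟨o, hoB, hoZ⟩ : ∃ o ∈ OB, o ∉ Z := by
    by_contra h
    simp only [not_exists, not_and, not_not] at h
    have := card_le_of_le (h : OB ≤ Z)
    rw [T.sB.card_O, hZc] at this
    omega
  have hotB : t * o * t ∈ OB := by
    have := T.sB.norm t htB o hoB; rwa [hti] at this
  set u := o * (t * o * t) with hu
  have huB : u ∈ OB := OB.mul_mem hoB hotB
  have hut' : t * u * t = u := by
    rw [hu, show t * (o * (t * o * t)) * t = (t * o) * t * o * (t * t) by group, htt, mul_one,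
      mul_assoc, T.sB.comm o hoB _ hotB]
    group
  have hut : u * t = t * u := by
    nth_rewrite 1 [← hut']; rw [mul_assoc, htt, mul_one]
  have huS : u ∈ A := T.S_A (T.OB_S huB)
  have hoA : o ∈ A := T.S_A (T.OB_S hoB)
  have hu1 : u ≠ 1 := by
    intro h
    apply hoZ
    rw [hZi]
    refine ⟨?_, hoB⟩
    have e : t * o * t = o⁻¹ := eq_inv_of_mul_eq_one_right h
    have hm : FA.m (t * o * t) = FA.m o := by
      rw [FA.m_mul (A.mul_mem htA hoA) htA, FA.m_mul htA hoA, hmt]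
      have : ∀ a : M4, mul4 (mul4 neg4 a) neg4 = a := by decide +kernel
      exact this _
    rw [e, FA.m_eq_iff (A.inv_mem hoA) hoA] at hm
    have h2 := OA.mul_mem hm hm
    have h3 : o⁻¹ * o⁻¹ * (o⁻¹ * o⁻¹) = o⁻¹ := by
      calc o⁻¹ * o⁻¹ * (o⁻¹ * o⁻¹) = (o * o * o)⁻¹ * o⁻¹ := by group
        _ = o⁻¹ := by rw [T.sB.cube o hoB, inv_one, one_mul]
    rw [h3] at h2
    exact inv_inv o ▸ OA.inv_mem h2
  have hu_notA : u ∉ OA := fun h => hu1 (FA.minus_fixed htA hmt htt h hut)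
  have hz_notu : z ∉ zpowers u := by
    intro h
    obtain ⟨k, hk⟩ := h
    change u ^ k = z at hk
    have e : z * t = t * z := by
      rw [← hk]; exact ((show Commute u t from hut).zpow_left k).eq
    exact hz1 (FA.minus_fixed htA hmt htt hzA e)
  obtain ⟨FB, hB1, hB2⟩ := exists_frame T.sB.le T.sB.norm T.sB.card_O T.sB.card T.sB.cube T.sB.comm
    T.sB.self huB hzB hu1 hz_notu
  have hmBt : FB.m t = dT := by
    refine FB.m_ext htB ?_ ?_
    · rw [hB1, hti]; exact hut'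
    · rw [hB2, hti, htz, ← hB2, FB.vec_inv]; rfl
  -- the involution inverting `OB`
  obtain ⟨z₁, hz₁B, hmz₁, hz₁₁⟩ := FB.exists_minus
  set c := t * z₁ * t * z₁ with hc
  have htz₁B : t * z₁ * t ∈ B := B.mul_mem (B.mul_mem htB hz₁B) htB
  have hcO : c ∈ OB := by
    refine (FB.m_one_iff (B.mul_mem htz₁B hz₁B)).1 ?_
    rw [FB.m_mul htz₁B hz₁B, FB.m_mul (B.mul_mem htB hz₁B) htB, FB.m_mul htB hz₁B, hmBt, hmz₁]
    decide
  have hctc : t * c * t = c⁻¹ := by
    refine eq_inv_of_mul_eq_one_left ?_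
    rw [hc, show t * (t * z₁ * t * z₁) * t * (t * z₁ * t * z₁) =
      (t * t) * z₁ * t * z₁ * (t * t) * z₁ * t * z₁ by group, htt, one_mul, mul_one,
      mul_assoc (z₁ * t) z₁ z₁, hz₁₁, mul_one, mul_assoc z₁ t t, htt, mul_one, hz₁₁]
  set z' := c * c * z₁ with hz'
  have hcc : c * c ∈ OB := OB.mul_mem hcO hcO
  have hz'B : z' ∈ B := B.mul_mem (FB.le hcc) hz₁B
  have hz't : z' * t = t * z' := by
    have e : t * z' * t = z' := by
      calc t * z' * t = t * c * (t * t) * c * (t * t) * z₁ * t := by rw [htt, hz']; group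
        _ = (t * c * t) * (t * c * t) * (t * z₁ * t * z₁) * z₁⁻¹ := by group
        _ = c⁻¹ * c⁻¹ * c * z₁ := by
          rw [hctc, ← hc, inv_eq_of_mul_eq_one_right hz₁₁]
        _ = (c * c * c)⁻¹ * c * c * z₁ := by group
        _ = z' := by rw [FB.cube hcO, inv_one, one_mul]
    nth_rewrite 1 [← e]; rw [mul_assoc, htt, mul_one]
  have hmz' : FB.m z' = neg4 := by
    rw [hz', FB.m_mul (FB.le hcc) hz₁B, (FB.m_one_iff (FB.le hcc)).2 hcc, hmz₁]; decide
  have hz'2 : z' * z' = 1 := by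
    calc z' * z' = c * c * (z₁ * (c * c) * z₁) := by rw [hz']; group
      _ = 1 := by rw [FB.minus_conj hz₁B hmz₁ hz₁₁ hcc, mul_inv_cancel]
  obtain ⟨g, hgB, hgz, hmg⟩ := FB.minus_lift hz'B hmz' hz'2 (a := dS) (by decide)
  have hgg : g * g = 1 := FB.minus_unique hz'B hmz' hz'2 (B.mul_mem hgB hgB) B.one_mem
    ((show Commute g z' from hgz).mul_left hgz).eq (by simp)
    (by rw [FB.m_mul hgB hgB, hmg, FB.m_one]; decide)
  have hgi : g⁻¹ = g := inv_eq_of_mul_eq_one_right hgg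
  set r := g * t * g with hr
  have hrB : r ∈ B := B.mul_mem (B.mul_mem hgB htB) hgB
  have hmr : FB.m r = dR := by
    rw [hr, FB.m_mul (B.mul_mem hgB htB) hgB, FB.m_mul hgB htB, hmg, hmBt]; decide
  have hrr : r * r = 1 := by
    rw [hr, show g * t * g * (g * t * g) = g * t * (g * g) * t * g by group, hgg, mul_one,
      mul_assoc g t t, htt, mul_one, hgg]
  have hri : r⁻¹ = r := inv_eq_of_mul_eq_one_right hrr
  have hrz' : r * z' = z' * r :=
    (((show Commute g z' from hgz).mul_left hz't.symm).mul_left hgz).eq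
  have hrt_eq : r * t = z' := FB.minus_unique hz'B hmz' hz'2 (B.mul_mem hrB htB) hz'B
    ((show Commute r z' from hrz').mul_left hz't.symm).eq rfl
    (by rw [FB.m_mul hrB htB, hmr, hmBt, hmz']; decide)
  have hrt : r * t = t * r := by
    have e : t * r = z' := FB.minus_unique hz'B hmz' hz'2 (B.mul_mem htB hrB) hz'B
      ((show Commute t z' from hz't.symm).mul_left hrz').eq rfl
      (by rw [FB.m_mul htB hrB, hmr, hmBt, hmz']; decide)
    rw [hrt_eq, e]
  have hgug : g * u * g = z := by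
    have := FB.conj_vec hgB (1, 0)
    rw [hB1, hgi, hmg, dS_e1, hB2] at this
    exact this
  have hrur : r * u * r = u⁻¹ := by
    have := FB.conj_vec hrB (1, 0)
    rw [hB1, hri, hmr, dR_e1, ← FB.vec_inv,
      hB1] at this
    exact this
  have hrz : r * z * r = z := by
    have := FB.conj_vec hrB (0, 1)
    rw [hB2, hri, hmr, dR_e2, hB2] at this
    exact this
  have hrA : r ∈ A := (T.cent_Z hZeq (by nth_rewrite 2 [← hrz]; rw [mul_assoc (r * z), hrr, mul_one])).1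
  -- the quaternion element
  have hu3 : u * u * u = 1 := T.sB.cube u huB
  have hui : u⁻¹ = u * u := inv_eq_of_mul_eq_one_right (by rw [← mul_assoc]; exact hu3)
  obtain ⟨qm, hqd, hq2, hqr, hqv, hqn⟩ := M4Facts.exists_q (FA.m u)
    (by rw [← FA.m_mul huS huS, ← FA.m_mul huS (A.mul_mem huS huS), ← mul_assoc, hu3, FA.m_one])
    (fun h => hu_notA ((FA.m_one_iff huS).1 h)) (FA.m r)
    (by rw [← FA.m_mul hrA hrA, hrr, FA.m_one])
    (by rw [← FA.m_mul huS hrA, ← FA.m_mul hrA (A.mul_mem huS hrA), ← mul_assoc, hrur, hui,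
      FA.m_mul huS huS])
  obtain ⟨q, hqA, hqt, rfl⟩ := FA.minus_lift htA hmt htt hqd
  have cq : Commute q t := hqt
  have cu : Commute u t := hut
  have cr : Commute r t := hrt
  have uniq : ∀ {x y : G}, x ∈ A → y ∈ A → Commute x t → Commute y t → FA.m x = FA.m y → x = y :=
    fun hx hy h1 h2 h => FA.minus_unique htA hmt htt hx hy h1.eq h2.eq h
  have huu := A.mul_mem huS huS
  have hqq : q * q = t := uniq (A.mul_mem hqA hqA) htA (cq.mul_left cq) (Commute.refl t)
    (by rw [FA.m_mul hqA hqA, hq2, hmt])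
  have hqi : q⁻¹ = q * (q * q) := by
    refine inv_eq_of_mul_eq_one_right ?_
    rw [hqq, ← mul_assoc, hqq, htt]
  have hrqr : r * q * r = q⁻¹ := by
    rw [hqi]
    refine uniq (A.mul_mem (A.mul_mem hrA hqA) hrA) (A.mul_mem hqA (A.mul_mem hqA hqA))
      ((cr.mul_left cq).mul_left cr) (cq.mul_left (cq.mul_left cq)) ?_
    rw [mul_assoc r q r, FA.m_mul hrA (A.mul_mem hqA hrA), FA.m_mul hqA hrA, hqr,
      FA.m_mul hqA (A.mul_mem hqA hqA), FA.m_mul hqA hqA]
  have hσA : u * (q * (u * u)) ∈ A := A.mul_mem huS (A.mul_mem hqA huu)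
  have cσ : Commute (u * (q * (u * u))) t := cu.mul_left (cq.mul_left (cu.mul_left cu))
  have hmσ : FA.m (u * (q * (u * u))) = mul4 (FA.m u) (mul4 (FA.m q) (mul4 (FA.m u) (FA.m u))) := by
    rw [FA.m_mul huS (A.mul_mem hqA huu), FA.m_mul hqA huu, FA.m_mul huS huS]
  have hqv' : q * (u * q * u⁻¹) = u * q * u⁻¹ * q * t := by
    rw [hui, mul_assoc u q, mul_assoc (u * (q * (u * u))) q t]
    refine uniq (A.mul_mem hqA hσA) (A.mul_mem hσA (A.mul_mem hqA htA)) (cq.mul_left cσ)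
      (cσ.mul_left (cq.mul_left (Commute.refl t))) ?_
    rw [FA.m_mul hqA hσA, FA.m_mul hσA (A.mul_mem hqA htA), FA.m_mul hqA htA, hmσ, hmt]
    exact hqv
  have hqn' : q * (u * q * u⁻¹) * (u⁻¹ * q * u) = 1 := by
    rw [hui, mul_assoc u q, mul_assoc (u * u) q u]
    have hτA : u * u * (q * u) ∈ A := A.mul_mem huu (A.mul_mem hqA huS)
    refine uniq (A.mul_mem (A.mul_mem hqA hσA) hτA) A.one_mem
      ((cq.mul_left cσ).mul_left ((cu.mul_left cu).mul_left (cq.mul_left cu))) (Commute.one_left _) ?_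
    rw [FA.m_mul (A.mul_mem hqA hσA) hτA, FA.m_mul hqA hσA, hmσ,
      FA.m_mul huu (A.mul_mem hqA huS), FA.m_mul hqA huS, FA.m_mul huS huS, FA.m_one]
    exact hqn
  -- an element of `OA` inverted by `r`
  obtain ⟨x, hxA, hxr⟩ : ∃ x ∈ OA, r * x ≠ x * r := by
    by_contra h
    simp only [not_exists, not_and, not_not] at h
    have hr' := FA.two_three (T.sA.self r hrA h) hrr
    rw [hr', FB.m_one] at hmr
    exact absurd hmr (by decide)
  have hrxr : r * x * r ∈ OA := by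
    have := T.sA.norm r hrA x hxA; rwa [hri] at this
  set w := x * (r * x * r)⁻¹ with hw
  have hwA : w ∈ OA := OA.mul_mem hxA (OA.inv_mem hrxr)
  have hw1 : w ≠ 1 := fun h => hxr (by
    have e : x = r * x * r := mul_inv_eq_one.1 h
    nth_rewrite 2 [e]; rw [mul_assoc (r * x), hrr, mul_one])
  have hrwr : r * w * r = w⁻¹ := by
    calc r * w * r = (r * x * r) * (r⁻¹ * r⁻¹) * x⁻¹ * (r⁻¹ * r) := by rw [hw]; group
      _ = (r * x * r) * x⁻¹ := by rw [hri, hrr, mul_one, mul_one]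
      _ = w⁻¹ := by rw [hw, mul_inv_rev, inv_inv]
  have hwZ : w ∉ Z := by
    intro h
    rw [hZeq] at h
    obtain ⟨k, hk⟩ := h
    change z ^ k = w at hk
    have hc2 : Commute r z := by
      show r * z = z * r
      nth_rewrite 2 [← hrz]; rw [mul_assoc (r * z), hrr, mul_one]
    have e : r * w * r = w := by
      rw [← hk, (hc2.zpow_right k).eq, mul_assoc, hrr, mul_one]
    rw [e] at hrwr
    exact hw1 (FA.two_three hwA (mul_eq_one_iff_eq_inv.2 hrwr))
  exact ⟨t, r, u, q, g, z, w, ⟨⟨FA, FB, hZeq, hA1, hB1, hB2, htA, htB, hrA, hrB, hqA, hgB, huS,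
    hu_notA, hmt, hmBt, hmr, hmg, htt, htne, hrr, hgg, hrt, hut, hrur, hrz, hr.symm, hgug, hqq,
    hrqr, hqv', hqn', hwA, hwZ, hrwr⟩⟩⟩

end Cfsg.Agent.Lib.ThreeLocal66.Amalgam
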