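import Cfsg.Agent.Lib.ThreeLocal66.Amalgam.Local
import Cfsg.Prelude.Def_Transfer

/-!
# Simplicity of the amalgam
-/

set_option synthInstance.maxSize 4000
set_option synthInstance.maxHeartbeats 400000

namespace Cfsg.Agent.Lib.ThreeLocal66.Amalgam

open Subgroup
open Cfsg.Agent.Lib.Suborbit46.GL23

variable {G : Type*} [Group G] [Finite G] {A B OA OB Z S : Subgroup G} {t r u q g z w : G}

omit [Finite G] in
/-- A normal subgroup containing `O`, an element of order three outside `O` and a reflection. -/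
theorem frame_le {H O : Subgroup G} (F : Frame H O) (N : Subgroup G) [N.Normal] (hO : O ≤ N)
    {a b : G} (ha : a ∈ H) (haN : a ∈ N) (ha3 : a * a * a = 1) (haO : a ∉ O)
    (hb : b ∈ H) (hbN : b ∈ N) (hb2 : mul4 (F.m b) (F.m b) = one4) (hb1 : F.m b ≠ one4)
    (hbn : F.m b ≠ neg4) : H ≤ N := by
  have hlift : ∀ {x y}, x ∈ H → y ∈ H → F.m x = F.m y → y ∈ N → x ∈ N := fun hx hy h hyN => by
    have := N.mul_mem (hO ((F.m_eq_iff hx hy).1 h)) hyN
    rwa [inv_mul_cancel_right] at this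
  have hthree : ∀ x ∈ H, F.m x ∈ threes → x ∈ N := by
    intro x hx hxm
    by_cases h1 : F.m x = one4
    · exact hO ((F.m_one_iff hx).1 h1)
    obtain ⟨hm, hd, he⟩ := M4Facts.conj_threes (F.m a)
      (by rw [← F.m_mul ha ha, ← F.m_mul ha (H.mul_mem ha ha), ← mul_assoc, ha3, F.m_one])
      (fun e => haO ((F.m_one_iff ha).1 e)) _ hxm h1
    obtain ⟨h, hh, rfl⟩ := F.exists_lift hd
    have key : ∀ c ∈ H, c ∈ N → F.m (h * c) = F.m (x * h) → x ∈ N := by
      intro c hc hcN e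
      refine hlift hx (H.mul_mem (H.mul_mem hh hc) (H.inv_mem hh)) ?_
        (Normal.conj_mem inferInstance c hcN h)
      refine (F.m_eq_iff hx (H.mul_mem (H.mul_mem hh hc) (H.inv_mem hh))).2 ?_
      have := (F.m_eq_iff (H.mul_mem hx hh) (H.mul_mem hh hc)).1 e.symm
      rwa [show x * (h * c * h⁻¹)⁻¹ = x * h * (h * c)⁻¹ by group]
    rcases he with e | e
    · exact key a ha haN (by rw [F.m_mul hh ha, F.m_mul hx hh, e])
    · exact key (a * a) (H.mul_mem ha ha) (N.mul_mem haN haN)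
        (by rw [F.m_mul hh (H.mul_mem ha ha), F.m_mul ha ha, F.m_mul hx hh, e])
  have hdet : ∀ x ∈ H, det4 (F.m x) = 1 → x ∈ N := by
    intro x hx hd
    obtain ⟨p, hp, p', hp', p'', hp'', e⟩ := M4Facts.sl_words _ hd
    have hne : ∀ p ∈ threes, det4 p ≠ 0 := by decide +kernel
    obtain ⟨x₁, h₁, rfl⟩ := F.exists_lift (hne p hp)
    obtain ⟨x₂, h₂, rfl⟩ := F.exists_lift (hne p' hp')
    obtain ⟨x₃, h₃, rfl⟩ := F.exists_lift (hne p'' hp'')
    refine hlift hx (H.mul_mem h₁ (H.mul_mem h₂ h₃)) ?_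
      (N.mul_mem (hthree _ h₁ hp) (N.mul_mem (hthree _ h₂ hp') (hthree _ h₃ hp'')))
    rw [e, F.m_mul h₁ (H.mul_mem h₂ h₃), F.m_mul h₂ h₃]
  intro x hx
  rcases M4Facts.det_refl _ hb2 hb1 hbn _ (F.m_det hx) with e | e
  · exact hdet x hx e
  · have := hdet (x * b) (H.mul_mem hx hb) (by rw [F.m_mul hx hb]; exact e)
    exact (Subgroup.mul_mem_cancel_right _ hbN).1 this

namespace Coords

variable (K : Coords A B OA OB Z t r u q g z w) (T : Setting A B OA OB Z S)
include K T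

/-- A normal subgroup containing `z` is the whole group. -/
theorem normal_top (N : Subgroup G) [hN : N.Normal] (hz : z ∈ N) : N = ⊤ := by
  have hu : u ∈ N := by
    have := hN.conj_mem z hz g
    rwa [K.gi, K.gzg] at this
  have hOA : OA ≤ N := by
    intro x hx
    by_cases h1 : x = 1
    · exact h1 ▸ N.one_mem
    obtain ⟨a, rfl⟩ := K.FA.vec_surj x hx
    obtain ⟨m, hm, hma⟩ := M4Facts.exists_to_e1 a fun h => h1 (h ▸ K.FA.vec_zero)
    obtain ⟨h, hh, hhm⟩ := K.FA.exists_lift hm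
    have e := K.FA.conj_vec hh a
    rw [hhm, hma, K.vA] at e
    have := hN.conj_mem z hz h⁻¹
    rwa [← e, show h⁻¹ * (h * K.FA.vec a * h⁻¹) * h⁻¹⁻¹ = K.FA.vec a by group] at this
  have hOB : OB ≤ N := by
    intro x hx
    by_cases h1 : x = 1
    · exact h1 ▸ N.one_mem
    obtain ⟨h, -, e⟩ := K.to_u hx h1
    have := hN.conj_mem u hu h⁻¹
    rwa [← e, show h⁻¹ * (h * x * h⁻¹) * h⁻¹⁻¹ = x by group] at this
  have hA3 : u * u * u = 1 := K.u_three
  -- `t` lies in `N`, being a word in elements of order three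
  have ht : t ∈ N := by
    have hqu : q * (u * q⁻¹ * u⁻¹) ∈ N := by
      have := N.mul_mem (hN.conj_mem u hu q) (N.inv_mem hu)
      rwa [show q * u * q⁻¹ * u⁻¹ = q * (u * q⁻¹ * u⁻¹) by group] at this
    have e : q * (u * q⁻¹ * u⁻¹) * (q * (u * q⁻¹ * u⁻¹)) = t := by
      have hqi : q⁻¹ = q * t := inv_eq_of_mul_eq_one_right (by rw [← mul_assoc, K.qq, K.tt])
      have ha : u * q⁻¹ * u⁻¹ = u * q * u⁻¹ * t := by
        rw [hqi, show u * (q * t) * u⁻¹ = u * q * u⁻¹ * (u * t * u⁻¹) by group, K.ut,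
          mul_inv_cancel_right]
      set a := u * q * u⁻¹ with ha'
      have hta : t * a = a * t := by
        have h1 : Commute q t := by rw [← K.qq]; exact (Commute.refl q).mul_right (Commute.refl q)
        exact (((show Commute u t from K.ut).mul_left h1).mul_left
          (show Commute u t from K.ut).inv_left).eq.symm
      set c := u⁻¹ * q * u with hc
      have hqn : q * a * c = 1 := K.qn
      have hc2 : c * c = t := by
        rw [hc, show u⁻¹ * q * u * (u⁻¹ * q * u) = u⁻¹ * (q * q) * u by group, K.qq, mul_assoc,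
          ← K.ut, inv_mul_cancel_left]
      clear_value a c
      have e1 : q * a = c⁻¹ := eq_inv_of_mul_eq_one_left hqn
      have hct : c * t = t * c := by rw [← hc2, mul_assoc]
      rw [ha, ← mul_assoc q a t, e1, (show Commute t c⁻¹ from (show Commute t c from
        hct.symm).inv_right).mul_mul_mul_comm, K.tt, mul_one, ← mul_inv_rev, hc2,
        inv_eq_of_mul_eq_one_right K.tt]
    exact e ▸ N.mul_mem hqu hqu
  have hr : r ∈ N := by
    have := hN.conj_mem t ht g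
    rwa [K.gi, K.gtg] at this
  have hA : A ≤ N := by
    refine frame_le K.FA N hOA K.uA hu hA3 K.u_notA K.rA hr ?_ ?_ ?_
    · rw [← K.FA.m_mul K.rA K.rA, K.rr, K.FA.m_one]
    · intro e
      have hr1 := K.FA.two_three ((K.FA.m_one_iff K.rA).1 e) K.rr
      have h := (congrArg K.FB.m hr1).symm.trans K.mBr
      rw [K.FB.m_one] at h
      exact absurd h (by decide)
    · intro e
      have hrt : r = t := K.FA.minus_unique K.tA K.mAt K.tt K.rA K.tA K.rt rfl (e.trans K.mAt.symm)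
      have h := (congrArg K.FB.m hrt).symm.trans K.mBr
      rw [K.mBt] at h
      exact absurd h (by decide)
  have hwB : w ∈ B := T.S_B (T.OA_S K.w_mem)
  have hB : B ≤ N := by
    refine frame_le K.FB N hOB hwB (hOA K.w_mem) (K.FA.cube K.w_mem) ?_ K.rB hr ?_ ?_ ?_
    · exact fun h => K.w_notZ (T.inter_card.2 ▸ ⟨K.w_mem, h⟩)
    · rw [K.mBr]; decide
    · rw [K.mBr]; decide
    · rw [K.mBr]; decide
  exact eq_top_iff.2 (T.gen ▸ sup_le hA hB)

theorem simple : IsSimpleGroup G := by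
  have : Fact (Nat.Prime 3) := ⟨Nat.prime_three⟩
  refine { exists_pair_ne := ⟨u, 1, K.u_ne⟩, eq_bot_or_eq_top_of_normal := fun N hN => ?_ }
  by_cases hA : ∃ x ∈ N, x ∈ A ∧ x ≠ 1
  · right
    obtain ⟨x, hxN, hxA, hx1⟩ := hA
    obtain ⟨y, hyN, hyA, hy1⟩ : ∃ y ∈ N, y ∈ OA ∧ y ≠ 1 := by
      by_cases hx : x ∈ OA
      · exact ⟨x, hxN, hx, hx1⟩
      obtain ⟨c, hc, hne⟩ : ∃ c ∈ OA, x * c ≠ c * x := by
        by_contra h
        simp only [not_exists, not_and, not_not] at h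
        exact hx (T.sA.self x hxA h)
      refine ⟨x * c * x⁻¹ * c⁻¹, ?_, OA.mul_mem (T.sA.norm x hxA c hc) (OA.inv_mem hc), fun e => ?_⟩
      · rw [show x * c * x⁻¹ * c⁻¹ = x * (c * x⁻¹ * c⁻¹) by group]
        exact N.mul_mem hxN (hN.conj_mem _ (N.inv_mem hxN) c)
      · exact hne (mul_inv_eq_iff_eq_mul.1 (mul_inv_eq_one.1 e))
    obtain ⟨a, rfl⟩ := K.FA.vec_surj y hyA
    obtain ⟨m, hm, hma⟩ := M4Facts.exists_to_e1 a fun h => hy1 (h ▸ K.FA.vec_zero)
    obtain ⟨h, hh, hhm⟩ := K.FA.exists_lift hm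
    have e := K.FA.conj_vec hh a
    rw [hhm, hma, K.vA] at e
    exact K.normal_top T N (e ▸ hN.conj_mem _ hyN h)
  by_cases hB : ∃ x ∈ N, x ∈ B ∧ x ≠ 1
  · right
    obtain ⟨x, hxN, hxB, hx1⟩ := hB
    obtain ⟨y, hyN, hyB, hy1⟩ : ∃ y ∈ N, y ∈ OB ∧ y ≠ 1 := by
      by_cases hx : x ∈ OB
      · exact ⟨x, hxN, hx, hx1⟩
      obtain ⟨c, hc, hne⟩ : ∃ c ∈ OB, x * c ≠ c * x := by
        by_contra h
        simp only [not_exists, not_and, not_not] at h
        exact hx (T.sB.self x hxB h)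
      refine ⟨x * c * x⁻¹ * c⁻¹, ?_, OB.mul_mem (T.sB.norm x hxB c hc) (OB.inv_mem hc), fun e => ?_⟩
      · rw [show x * c * x⁻¹ * c⁻¹ = x * (c * x⁻¹ * c⁻¹) by group]
        exact N.mul_mem hxN (hN.conj_mem _ (N.inv_mem hxN) c)
      · exact hne (mul_inv_eq_iff_eq_mul.1 (mul_inv_eq_one.1 e))
    obtain ⟨h, -, e⟩ := K.to_u hyB hy1
    have hu : u ∈ N := e ▸ hN.conj_mem _ hyN h
    have := hN.conj_mem u hu g
    rw [K.gi, K.gug] at this
    exact K.normal_top T N this
  left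
  simp only [not_exists, not_and, not_not] at hA hB
  refine trivial_of_fpf K.FB N (fun e _ x hx => hN.conj_mem x hx e) ?_
    fun e he he1 x hx hxe => hB x hx (K.cent_B T he he1 hxe)
  intro h3
  obtain ⟨⟨x, hxN⟩, hxo⟩ := exists_prime_orderOf_dvd_card' (G := N) 3 h3
  rw [Subgroup.orderOf_mk] at hxo
  obtain ⟨P, hP⟩ := T.sylow
  have hp : IsPGroup 3 (zpowers x) := IsPGroup.of_card (n := 1) (by rw [Nat.card_zpowers, hxo, pow_one])
  obtain ⟨Q, hQ⟩ := IsPGroup.exists_le_sylow hp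
  obtain ⟨k, hk⟩ := MulAction.exists_smul_eq G Q P
  have hmem : k * x * k⁻¹ ∈ S := by
    rw [← hP, ← hk, Sylow.coe_subgroup_smul]
    exact Subgroup.smul_mem_pointwise_smul x (MulAut.conj k) _ (hQ (mem_zpowers x))
  have := hA _ (hN.conj_mem x hxN k) (T.S_A hmem)
  rw [conj_eq_one_iff.1 this, orderOf_one] at hxo
  norm_num at hxo

theorem residual : Cfsg.pResidual 2 G = ⊤ := by
  have hset : ∀ (a : G) x, x ∈ Cfsg.pResidual 2 G → a * x * a⁻¹ ∈ Cfsg.pResidual 2 G := by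
    intro a x hx
    induction hx using Subgroup.closure_induction with
    | mem y hy =>
      refine Subgroup.subset_closure ?_
      show Nat.Coprime (orderOf (a * y * a⁻¹)) 2
      rw [orderOf_conj']; exact hy
    | one => simp
    | mul y y' _ _ hy hy' =>
      rw [show a * (y * y') * a⁻¹ = a * y * a⁻¹ * (a * y' * a⁻¹) by group]; exact mul_mem hy hy'
    | inv y _ hy => rw [show a * y⁻¹ * a⁻¹ = (a * y * a⁻¹)⁻¹ by group]; exact inv_mem hy
  have : (Cfsg.pResidual 2 G).Normal := ⟨fun x hx a => hset a x hx⟩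
  refine K.normal_top T _ (Subgroup.subset_closure ?_)
  show Nat.Coprime (orderOf z) 2
  have : Fact (Nat.Prime 3) := ⟨Nat.prime_three⟩
  rw [orderOf_eq_prime (p := 3) (by rw [pow_succ, pow_two]; exact K.z_three) K.z_ne]
  norm_num

omit [Finite G] T in
theorem not_comm : ¬ IsMulCommutative G := by
  intro h
  have e := K.rur
  rw [h.is_comm.comm r u, mul_assoc, K.rr, mul_one] at e
  exact K.u_ne (K.FB.two_three K.u_OB (mul_eq_one_iff_eq_inv.2 e))

end Coords

end Cfsg.Agent.Lib.ThreeLocal66.Amalgam
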