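import Cfsg.Agent.Lib.ThreeLocal66.Amalgam.Verify
import Cfsg.Agent.Lib.ThreeLocal66.Shape

/-!
# The amalgam satisfies the hypotheses on elements of order three
-/

set_option synthInstance.maxSize 4000
set_option synthInstance.maxHeartbeats 400000

namespace Cfsg.Agent.Lib.ThreeLocal66.Amalgam

open Subgroup Pointwise
open Cfsg.Agent.Lib.Suborbit46.GL23

theorem neg_e1 : -((1, 0) : ZMod 3 × ZMod 3) = (2, 0) := by decide

theorem zmod_three_cases : ∀ c : ZMod 3, c = 0 ∨ c = 1 ∨ c = -1 := by decide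

theorem one_mul_sq : ∀ a : M4, det4 a ≠ 0 → mul4 one4 a = mul4 a a → a = one4 := by decide +kernel

theorem e2_ne : ((0, 1) : ZMod 3 × ZMod 3) ≠ (0, 0) ∧ ((0, 1) : ZMod 3 × ZMod 3) ≠ (1, 0) ∧
    ((0, 1) : ZMod 3 × ZMod 3) ≠ -(1, 0) := by decide

variable {G : Type*} [Group G] [Finite G] {A B OA OB Z S : Subgroup G} {t r u q g z w : G}

theorem exists_to_dT : ∀ s, mul4 s s = one4 → s ≠ one4 → act s (1, 0) = (1, 0) →
    ∃ k, det4 k ≠ 0 ∧ act k (1, 0) = (1, 0) ∧ mul4 k s = mul4 dT k := by decide +kernel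

namespace Setting

variable (T : Setting A B OA OB Z S)
include T

theorem comm_Z {a b : G} (ha : a ∈ S) (hb : b ∈ S) : a * b * a⁻¹ * b⁻¹ ∈ Z := by
  have key : ∀ {H O : Subgroup G}, Side H O → O ≤ S → S ≤ H → a * b * a⁻¹ * b⁻¹ ∈ O := by
    intro H O hs hOS hSH
    have : Fact (Nat.Prime 3) := ⟨Nat.prime_three⟩
    have : (O.subgroupOf S).Normal :=
      ⟨fun x hx y => mem_subgroupOf.2 (hs.norm y (hSH y.2) x (mem_subgroupOf.1 hx))⟩
    have hidx : Nat.card (S ⧸ O.subgroupOf S) = 3 := by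
      have h := card_mul_index (O.subgroupOf S)
      rw [Nat.card_congr (subgroupOfEquivOfLe hOS).toEquiv, hs.card_O, T.card_S] at h
      change Nat.card (S ⧸ O.subgroupOf S) = 3
      rw [← index_eq_card]; omega
    have : IsCyclic (S ⧸ O.subgroupOf S) := isCyclic_of_prime_card hidx
    have hc := this.isMulCommutative.is_comm.comm (QuotientGroup.mk (⟨a, ha⟩ : S)) (QuotientGroup.mk ⟨b, hb⟩)
    have h1 : (QuotientGroup.mk ((⟨a, ha⟩ : S) * ⟨b, hb⟩ * (⟨a, ha⟩ : S)⁻¹ * (⟨b, hb⟩ : S)⁻¹) :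
        S ⧸ O.subgroupOf S) = 1 := by
      rw [QuotientGroup.mk_mul, QuotientGroup.mk_mul, QuotientGroup.mk_mul, QuotientGroup.mk_inv,
        QuotientGroup.mk_inv, hc, mul_inv_cancel_right, mul_inv_cancel]
    exact mem_subgroupOf.1 ((QuotientGroup.eq_one_iff _).1 h1)
  rw [T.inter_card.2]
  exact ⟨key T.sA T.OA_S T.S_A, key T.sB T.OB_S T.S_B⟩

theorem sylow : ∃ P : Sylow 3 G, (P : Subgroup G) = S := by
  have : Fact (Nat.Prime 3) := ⟨Nat.prime_three⟩
  have h27 : 3 ^ 3 ∣ Nat.card G := by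
    have := card_subgroup_dvd_card S
    rw [T.card_S] at this
    simpa using this
  have h81 : ¬ 3 ^ (3 + 1) ∣ Nat.card G := by
    intro h
    have hq := Sylow.prime_dvd_card_quotient_normalizer h (H := S) (by rw [T.card_S]; norm_num)
    have hNA : normalizer (S : Set G) ≤ A := by
      intro x hx
      have hf : ∀ x, x ∈ normalizer (S : Set G) → ∀ y ∈ Z, x * y * x⁻¹ ∈ Z := by
        intro x hx y hy
        obtain ⟨hyS, hyc⟩ := (T.mem_Z y).1 hy
        refine (T.mem_Z _).2 ⟨(mem_normalizer_iff.1 hx y).1 hyS, fun a ha => ?_⟩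
        have ha' : x⁻¹ * a * x ∈ S := (mem_normalizer_iff''.1 hx a).1 ha
        calc x * y * x⁻¹ * a = x * (y * (x⁻¹ * a * x)) * x⁻¹ := by group
          _ = a * (x * y * x⁻¹) := by rw [hyc _ ha']; group
      refine (mem_inf.1 (T.NZ (mem_normalizer_iff.2 fun y => ⟨hf x hx y, fun hy => ?_⟩))).1
      have h2 := hf x⁻¹ (inv_mem hx) _ hy
      rwa [show x⁻¹ * (x * y * x⁻¹) * x⁻¹⁻¹ = y by group] at h2
    have hcard := card_mul_index (S.comap (normalizer (S : Set G)).subtype)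
    have hc27 : Nat.card (S.comap (normalizer (S : Set G)).subtype) = 27 := by
      rw [← T.card_S]
      exact Nat.card_congr (subgroupOfEquivOfLe le_normalizer).toEquiv
    rw [hc27, index_eq_card] at hcard
    have hdvd := card_dvd_of_le hNA
    rw [T.sA.card, ← hcard] at hdvd
    obtain ⟨k, hk⟩ := hq
    rw [hk] at hdvd
    have : 27 * 3 ∣ 432 := (Nat.mul_dvd_mul_left 27 (dvd_mul_right 3 k)).trans hdvd
    norm_num at this
  have hf : (Nat.card G).factorization 3 = 3 := by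
    have h1 := (Nat.prime_three.pow_dvd_iff_le_factorization Nat.card_pos.ne').1 h27
    have h2 : ¬ 4 ≤ (Nat.card G).factorization 3 := fun h =>
      h81 ((Nat.prime_three.pow_dvd_iff_le_factorization Nat.card_pos.ne').2 h)
    omega
  exact ⟨Sylow.ofCard S (by rw [hf, T.card_S]; norm_num), rfl⟩

end Setting

namespace Coords

variable (K : Coords A B OA OB Z t r u q g z w) (T : Setting A B OA OB Z S)
include K T

omit [Finite G] T in
theorem z_three : z * z * z = 1 := K.FA.cube K.z_OA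

omit [Finite G] T in
theorem z_ne : z ≠ 1 := fun h => absurd (K.FA.vec_eq_one.1 (K.vA.trans h)) (by decide)

omit [Finite G] T in
theorem z_mem : z ∈ Z := K.Z_eq ▸ mem_zpowers z

omit T in
theorem Z_cases {x : G} (hx : x ∈ Z) : x = 1 ∨ x = z ∨ x = z⁻¹ := by
  rw [K.Z_eq, ← mem_powers_iff_mem_zpowers] at hx
  obtain ⟨n, rfl⟩ := hx
  have ho : orderOf z = 3 := by
    have : Fact (Nat.Prime 3) := ⟨Nat.prime_three⟩
    exact orderOf_eq_prime (by rw [pow_succ, pow_two]; exact K.z_three) K.z_ne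
  show z ^ n = 1 ∨ z ^ n = z ∨ z ^ n = z⁻¹
  rw [← pow_mod_orderOf, ho]
  have : n % 3 < 3 := Nat.mod_lt _ (by norm_num)
  interval_cases (n % 3)
  · exact Or.inl (pow_zero _)
  · exact Or.inr (Or.inl (pow_one _))
  · exact Or.inr (Or.inr (by rw [pow_two]; exact eq_inv_of_mul_eq_one_left K.z_three))

/-- In `S` an element commuting with a non-central element outside both kernels is a conjugate
of one of its powers, or central. -/
theorem comm_in_S {y v : G} (hy : y ∈ S) (hyZ : y ∉ Z) (hy3 : y * y * y = 1) (hU : ¬ UType u y)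
    (hv : v ∈ S) (hvy : v * y = y * v) (hvU : UType u v) : v ∈ Z := by
  classical
  let C : Subgroup G := S ⊓ Subgroup.centralizer {y}
  have hzS : z ∈ S := ((T.mem_Z z).1 K.z_mem).1
  have hzy : z * y = y * z := ((T.mem_Z z).1 K.z_mem).2 y hy
  obtain ⟨a, ha, hay⟩ : ∃ a ∈ S, a * y ≠ y * a := by
    by_contra h
    simp only [not_exists, not_and, not_not] at h
    exact hyZ ((T.mem_Z y).2 ⟨hy, fun x hx => (h x hx).symm⟩)
  have hC9 : Nat.card C ≤ 9 := by
    have hd : Nat.card C ∣ 27 := T.card_S ▸ card_dvd_of_le inf_le_left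
    have hne : Nat.card C ≠ 27 := fun h => hay (by
      have e : C = S := eq_of_le_of_card_ge inf_le_left (by rw [h, T.card_S])
      exact mem_centralizer_singleton_iff.1 ((e.symm ▸ ha : a ∈ C)).2)
    have : Nat.card C ∈ Nat.divisors 27 := Nat.mem_divisors.2 ⟨hd, by norm_num⟩
    rw [show Nat.divisors 27 = {1, 3, 9, 27} by decide] at this
    simp only [Finset.mem_insert, Finset.mem_singleton] at this
    omega
  let Y : Fin 3 → G := ![1, y, y⁻¹]
  let W : Fin 3 → G := ![1, z, z⁻¹]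
  have hYC : ∀ i, Y i ∈ C := by
    have hyC : y ∈ C := ⟨hy, mem_centralizer_singleton_iff.2 rfl⟩
    intro i; fin_cases i
    exacts [C.one_mem, hyC, C.inv_mem hyC]
  have hWC : ∀ i, W i ∈ C := by
    have hzC : z ∈ C := ⟨hzS, mem_centralizer_singleton_iff.2 hzy⟩
    intro i; fin_cases i
    exacts [C.one_mem, hzC, C.inv_mem hzC]
  have hWZ : ∀ i, W i ∈ Z := by
    intro i; fin_cases i
    exacts [Z.one_mem, K.z_mem, Z.inv_mem K.z_mem]
  have hY : ∀ i j, (Y j)⁻¹ * Y i ∈ Z → i = j := by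
    have hy2 : y * y = y⁻¹ := eq_inv_of_mul_eq_one_left hy3
    have hy2' : y⁻¹ * y⁻¹ = y := by rw [← mul_inv_rev, hy2, inv_inv]
    intro i j h
    fin_cases i <;> fin_cases j <;>
      first
        | rfl
        | (exfalso; apply hyZ; simp [Y, hy2, hy2'] at h; exact h)
  have hW : Function.Injective W := by
    have h1 := K.z_ne
    have h2 : z⁻¹ ≠ z := fun e => h1 (by
      have e2 : z * z = 1 := by nth_rewrite 1 [← e]; exact inv_mul_cancel z
      have := K.z_three; rwa [e2, one_mul] at this)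
    intro i j h
    fin_cases i <;> fin_cases j <;> first | rfl | (exfalso; simp [W] at h; first
      | exact h1 h | exact h1 h.symm | exact h2 h | exact h2 h.symm)
  let f : Fin 3 × Fin 3 → C := fun p => ⟨Y p.1 * W p.2, C.mul_mem (hYC _) (hWC _)⟩
  have hf : Function.Injective f := by
    rintro ⟨i, j⟩ ⟨i', j'⟩ h
    have e : Y i * W j = Y i' * W j' := congrArg Subtype.val h
    have hi : i = i' := hY i i' (by
      rw [show (Y i')⁻¹ * Y i = W j' * (W j)⁻¹ by
        rw [eq_comm, mul_inv_eq_iff_eq_mul, mul_assoc, e, inv_mul_cancel_left]]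
      exact Z.mul_mem (hWZ _) (Z.inv_mem (hWZ _)))
    subst hi
    rw [hW (mul_left_cancel e)]
  have hb : Function.Bijective f := (Nat.bijective_iff_injective_and_card f).2 ⟨hf, by
    have := Nat.card_le_card_of_injective f hf
    rw [Nat.card_prod, Nat.card_fin] at this ⊢
    omega⟩
  obtain ⟨⟨i, j⟩, hij⟩ := hb.2 ⟨v, hv, mem_centralizer_singleton_iff.2 hvy⟩
  have hij' : Y i * W j = v := congrArg Subtype.val hij
  rw [← hij'] at hvU ⊢
  by_cases hi : i = 0
  · subst hi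
    exact Z.mul_mem Z.one_mem (hWZ j)
  exfalso
  -- `v` is a conjugate of `Y i`
  have hYU : ¬ UType u (Y i) := by
    fin_cases i
    · exact absurd rfl hi
    · exact hU
    · exact fun e => hU (uType_inv e)
  have hYS : Y i ∈ S := (hYC i).1
  set c := (Y i)⁻¹ * (a * Y i * a⁻¹) with hc
  have hcZ : c ∈ Z := by
    have h := T.comm_Z (S.inv_mem hYS) ha
    rwa [show (Y i)⁻¹ * a * (Y i)⁻¹⁻¹ * a⁻¹ = c by rw [hc]; group] at h
  have hcc : ∀ x ∈ S, c * x = x * c := ((T.mem_Z c).1 hcZ).2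
  have hc1 : c ≠ 1 := by
    intro e
    apply hay
    have hcm : Commute a (Y i) := mul_inv_eq_iff_eq_mul.1 (inv_mul_eq_one.1 (hc ▸ e)).symm
    fin_cases i
    · exact absurd rfl hi
    · exact hcm.eq
    · exact (inv_inv y ▸ hcm.inv_right :)
  have e1 : a * Y i * a⁻¹ = Y i * c := by rw [hc, mul_inv_cancel_left]
  have e2 : a * a * Y i * (a * a)⁻¹ = Y i * (c * c) := by
    calc a * a * Y i * (a * a)⁻¹ = a * (a * Y i * a⁻¹) * a⁻¹ := by group
      _ = a * (Y i * c) * a⁻¹ := by rw [e1]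
      _ = (a * Y i * a⁻¹) * (a * c * a⁻¹) := by group
      _ = Y i * (c * c) := by rw [e1, ← hcc a ha, mul_inv_cancel_right, mul_assoc]
  have hcases : W j = 1 ∨ W j = c ∨ W j = c * c := by
    have hzz : z * z = z⁻¹ := eq_inv_of_mul_eq_one_left K.z_three
    have hzz' : z⁻¹ * z⁻¹ = z := by rw [← mul_inv_rev, hzz, inv_inv]
    rcases K.Z_cases hcZ with h | h | h
    · exact absurd h hc1
    all_goals
      rcases K.Z_cases (hWZ j) with h' | h' | h'
      · exact Or.inl h'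
      all_goals rw [h, h']; simp [hzz, hzz']
  refine hYU ?_
  rcases hcases with h | h | h <;> rw [h] at hvU
  · rwa [mul_one] at hvU
  · rw [← e1] at hvU; exact UType.conj_iff.1 hvU
  · rw [← e2] at hvU; exact UType.conj_iff.1 hvU

/-- An involution inverting an element of order three with no commuting involution. -/
theorem yfix {y s : G} (hy3 : y ^ 3 = 1) (hy1 : y ≠ 1) (hU : ¬ UType u y)
    (hno : ∀ a, a * a = 1 → a * y = y * a → a = 1) (hs : s * s = 1) (hs1 : s ≠ 1)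
    (hsy : s * y * s = y⁻¹) :
    ∃ h, h * s * h⁻¹ = t ∧ (h * y * h⁻¹) * u = u * (h * y * h⁻¹) := by
  have : Fact (Nat.Prime 3) := ⟨Nat.prime_three⟩
  have : Fact (Nat.Prime 2) := ⟨Nat.prime_two⟩
  have hy3' : y * y * y = 1 := by rw [← hy3, pow_succ, pow_two]
  let H : Subgroup G := Subgroup.centralizer {y}
  have hHodd : ¬ 2 ∣ Nat.card H := by
    intro h
    obtain ⟨⟨a, haH⟩, ha⟩ := exists_prime_orderOf_dvd_card' (G := H) 2 h
    rw [Subgroup.orderOf_mk] at ha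
    have := hno a (by rw [← pow_two, ← ha, pow_orderOf_eq_one]) (mem_centralizer_singleton_iff.1 haH)
    rw [this, orderOf_one] at ha
    norm_num at ha
  have hsc : ∀ h ∈ H, s * h * s ∈ H := by
    intro h hh
    have hh' : Commute h y⁻¹ := (show Commute h y from mem_centralizer_singleton_iff.1 hh).inv_right
    have e : s * y⁻¹ * s = y := by
      rw [← hsy, show s * (s * y * s) * s = (s * s) * y * (s * s) by group, hs, one_mul, mul_one]
    refine mem_centralizer_singleton_iff.2 ?_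
    nth_rewrite 1 [← e]
    rw [show s * h * s * (s * y⁻¹ * s) = s * h * (s * s) * y⁻¹ * s by group, hs, mul_one,
      mul_assoc s h y⁻¹, hh'.eq]
    nth_rewrite 2 [← e]
    rw [show s * y⁻¹ * s * (s * h * s) = s * y⁻¹ * (s * s) * h * s by group, hs, mul_one,
      mul_assoc s y⁻¹ h]
  let φ : MulAut H :=
    { toFun := fun h => ⟨s * h * s, hsc h h.2⟩
      invFun := fun h => ⟨s * h * s, hsc h h.2⟩
      left_inv := fun h => Subtype.ext (by
        show s * (s * (h : G) * s) * s = h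
        rw [show s * (s * (h : G) * s) * s = (s * s) * h * (s * s) by group, hs, one_mul, mul_one])
      right_inv := fun h => Subtype.ext (by
        show s * (s * (h : G) * s) * s = h
        rw [show s * (s * (h : G) * s) * s = (s * s) * h * (s * s) by group, hs, one_mul, mul_one])
      map_mul' := fun a b => Subtype.ext (by
        show s * ((a : G) * b) * s = s * a * s * (s * b * s)
        rw [show s * (a : G) * s * (s * b * s) = s * a * (s * s) * b * s by group, hs, mul_one]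
        group) }
  have hφ : φ * φ = 1 := by
    ext h
    show s * (s * (h : G) * s) * s = h
    rw [show s * (s * (h : G) * s) * s = (s * s) * h * (s * s) by group, hs, one_mul, mul_one]
  have := Fintype.ofFinite (Sylow 3 H)
  let σ : Equiv.Perm (Sylow 3 H) := MulAction.toPerm φ
  have hσ : σ ^ 2 ^ 1 = 1 := by
    ext P : 1
    rw [pow_one, pow_two]
    show φ • φ • P = P
    rw [← mul_smul, hφ, one_smul]
  obtain ⟨P⟩ := (inferInstance : Nonempty (Sylow 3 H))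
  have hcardodd : ¬ 2 ∣ Fintype.card (Sylow 3 H) := by
    rw [← Nat.card_eq_fintype_card]
    intro h
    exact hHodd (h.trans ((Sylow.card_dvd_index P).trans (index_dvd_card _)))
  obtain ⟨V, hV⟩ := Equiv.Perm.exists_fixed_point_of_prime hcardodd hσ
  have hsV : ∀ h : H, h ∈ (V : Subgroup H) → φ h ∈ (V : Subgroup H) := by
    intro h hh
    have h1 : φ • h ∈ φ • (V : Subgroup H) := Subgroup.smul_mem_pointwise_smul h φ _ hh
    rwa [show φ • (V : Subgroup H) = (V : Subgroup H) from congrArg Sylow.toSubgroup hV] at h1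
  let y' : H := ⟨y, mem_centralizer_singleton_iff.2 rfl⟩
  have hcen : ∀ h : H, h * y' = y' * h := fun h =>
    Subtype.ext (mem_centralizer_singleton_iff.1 h.2)
  have absorb : ∀ x : H, x ^ 3 = 1 → (∀ h ∈ (V : Subgroup H), h * x = x * h) → x ∈ (V : Subgroup H) := by
    intro x hx hxV
    have hp : IsPGroup 3 (zpowers x) := fun ⟨a, ha⟩ => by
      obtain ⟨k, rfl⟩ := ha
      refine ⟨1, Subtype.ext ?_⟩
      show (x ^ k) ^ (3 ^ 1) = 1
      rw [pow_one, ← zpow_natCast, ← zpow_mul, mul_comm, zpow_mul, zpow_natCast, hx, one_zpow]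
    have hn : zpowers x ≤ normalizer ((V : Subgroup H) : Set H) := by
      rw [zpowers_le]
      refine mem_normalizer_iff.2 fun h => ⟨fun hh => ?_, fun hh => ?_⟩
      · rw [← hxV h hh, mul_inv_cancel_right]; exact hh
      · have e := hxV _ hh
        rw [inv_mul_cancel_right] at e
        have e' : h = x * h * x⁻¹ := mul_left_cancel (a := x) (by rw [← e])
        exact e'.symm ▸ hh
    have hsup : IsPGroup 3 (zpowers x ⊔ (V : Subgroup H) : Subgroup H) :=
      IsPGroup.to_sup_of_normal_right' hp V.2 hn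
    exact V.3 hsup le_sup_right ▸ mem_sup_left (mem_zpowers x)
  have hyV : y' ∈ (V : Subgroup H) := absorb y' (Subtype.ext (by simpa using hy3)) fun h _ => hcen h
  obtain ⟨P₀, hP₀⟩ := T.sylow
  obtain ⟨Q, hQ⟩ := IsPGroup.exists_le_sylow (V.2.map H.subtype)
  obtain ⟨k, hk⟩ := MulAction.exists_smul_eq G Q P₀
  have hmem : ∀ h : H, h ∈ (V : Subgroup H) → k * (h : G) * k⁻¹ ∈ S := by
    intro h hh
    rw [← hP₀, ← hk, Sylow.coe_subgroup_smul]
    exact Subgroup.smul_mem_pointwise_smul (h : G) (MulAut.conj k) _ (hQ ⟨h, hh, rfl⟩)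
  set y₀ := k * y * k⁻¹ with hy₀
  set s₀ := k * s * k⁻¹ with hs₀
  have hy₀S : y₀ ∈ S := hmem y' hyV
  have hU₀ : ¬ UType u y₀ := fun e => hU (UType.conj_iff.1 e)
  have hy₀1 : y₀ ≠ 1 := fun e => hy1 (conj_eq_one_iff.1 e)
  have hy₀Z : y₀ ∉ Z := fun e => hU₀ (K.uType_OA (T.Z_le e).1 hy₀1)
  have hy₀3 : y₀ * y₀ * y₀ = 1 := by
    rw [hy₀, show k * y * k⁻¹ * (k * y * k⁻¹) * (k * y * k⁻¹) = k * (y * y * y) * k⁻¹ by group, hy3',
      mul_one, mul_inv_cancel]
  have hs₀2 : s₀ * s₀ = 1 := by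
    rw [hs₀, show k * s * k⁻¹ * (k * s * k⁻¹) = k * (s * s) * k⁻¹ by group, hs, mul_one, mul_inv_cancel]
  have hs₀i : s₀⁻¹ = s₀ := inv_eq_of_mul_eq_one_right hs₀2
  have hzc := ((T.mem_Z z).1 K.z_mem).2
  -- the centre of the conjugate Sylow subgroup
  have hz'H : k⁻¹ * z * k ∈ H := by
    refine mem_centralizer_singleton_iff.2 ?_
    calc k⁻¹ * z * k * y = k⁻¹ * (z * y₀) * k := by rw [hy₀]; group
      _ = y * (k⁻¹ * z * k) := by rw [hzc _ hy₀S, hy₀]; group
  have hzV : (⟨k⁻¹ * z * k, hz'H⟩ : H) ∈ (V : Subgroup H) := by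
    refine absorb _ (Subtype.ext ?_) fun h hh => Subtype.ext ?_
    · show (k⁻¹ * z * k) ^ 3 = 1
      rw [pow_succ, pow_two, show k⁻¹ * z * k * (k⁻¹ * z * k) * (k⁻¹ * z * k) =
        k⁻¹ * (z * z * z) * k by group, K.z_three, mul_one, inv_mul_cancel]
    · show (h : G) * (k⁻¹ * z * k) = k⁻¹ * z * k * h
      calc (h : G) * (k⁻¹ * z * k) = k⁻¹ * ((k * h * k⁻¹) * z) * k := by group
        _ = _ := by rw [← hzc _ (hmem h hh)]; group
  set v₀ := s₀ * z * s₀ with hv₀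
  have hv₀S : v₀ ∈ S := by
    have h := hmem _ (hsV _ hzV)
    rwa [show k * ((φ ⟨k⁻¹ * z * k, hz'H⟩ : H) : G) * k⁻¹ = v₀ from by
      show k * (s * (k⁻¹ * z * k) * s) * k⁻¹ = v₀
      rw [hv₀, hs₀]; group] at h
  have hsy₀ : s₀ * y₀ * s₀ = y₀⁻¹ := by
    rw [hs₀, hy₀, show k * s * k⁻¹ * (k * y * k⁻¹) * (k * s * k⁻¹) = k * (s * y * s) * k⁻¹ by group,
      hsy]
    group
  have hy₀i : s₀ * y₀⁻¹ * s₀ = y₀ := by
    rw [← hsy₀, show s₀ * (s₀ * y₀ * s₀) * s₀ = (s₀ * s₀) * y₀ * (s₀ * s₀) by group, hs₀2, one_mul,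
      mul_one]
  have hv₀y : v₀ * y₀ = y₀ * v₀ := by
    nth_rewrite 1 [← hy₀i]
    nth_rewrite 2 [← hy₀i]
    rw [hv₀, show s₀ * z * s₀ * (s₀ * y₀⁻¹ * s₀) = s₀ * z * (s₀ * s₀) * y₀⁻¹ * s₀ by group, hs₀2,
      mul_one, mul_assoc s₀ z, hzc _ (S.inv_mem hy₀S),
      show s₀ * y₀⁻¹ * s₀ * (s₀ * z * s₀) = s₀ * y₀⁻¹ * (s₀ * s₀) * z * s₀ by group, hs₀2, mul_one,
      mul_assoc s₀ y₀⁻¹ z]
  have hv₀U : UType u v₀ := by
    have h := (UType.conj_iff (k := s₀)).2 (K.uType_OA K.z_OA K.z_ne)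
    rwa [hs₀i] at h
  have hv₀Z := K.comm_in_S T hy₀S hy₀Z hy₀3 hU₀ hv₀S hv₀y hv₀U
  have hsN : s₀ ∈ A ∧ s₀ ∈ B := by
    have hf : ∀ x ∈ Z, s₀ * x * s₀⁻¹ ∈ Z := by
      intro x hx
      rcases K.Z_cases hx with rfl | rfl | rfl
      · simp
      · rw [hs₀i]; exact hv₀Z
      · rw [show s₀ * z⁻¹ * s₀⁻¹ = (s₀ * z * s₀⁻¹)⁻¹ by group, hs₀i]; exact Z.inv_mem hv₀Z
    refine mem_inf.1 (T.NZ (mem_normalizer_iff.2 fun x => ⟨hf x, fun hx => ?_⟩))
    have h := hf _ hx
    rwa [show s₀ * (s₀ * x * s₀⁻¹) * s₀⁻¹ = (s₀ * s₀) * x * (s₀ * s₀)⁻¹ by group, hs₀2, inv_one,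
      one_mul, mul_one] at h
  have hy₀A := T.S_A hy₀S
  have hy₀B := T.S_B hy₀S
  have hv₀ne : v₀ ≠ 1 := fun e => K.z_ne (by
    rw [hv₀] at e
    calc z = (s₀ * s₀) * z * (s₀ * s₀) := by rw [hs₀2, one_mul, mul_one]
      _ = s₀ * (s₀ * z * s₀) * s₀ := by group
      _ = 1 := by rw [e, mul_one, hs₀2])
  rcases K.Z_cases hv₀Z with e | e | e
  · exact absurd e hv₀ne
  · -- `s₀` centralises `z`
    have hsz : s₀ * z = z * s₀ := by
      nth_rewrite 2 [← e]; rw [hv₀, mul_assoc (s₀ * z), hs₀2, mul_one]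
    set s₁ := g * s₀ * g with hs₁
    have hggm : ∀ a b : G, g * a * g * (g * b * g) = g * (a * b) * g := fun a b => by
      rw [show g * a * g * (g * b * g) = g * a * (g * g) * b * g by group, K.gg, mul_one]; group
    have hs₁u : s₁ * u = u * s₁ := by rw [hs₁, ← K.gzg, hggm, hggm, hsz]
    have hs₁2 : s₁ * s₁ = 1 := by rw [hs₁, hggm, hs₀2, mul_one, K.gg]
    have hs₁ne : s₁ ≠ 1 := fun e => hs1 (by
      have e' : s₀ = 1 := by
        rw [show s₀ = (g * g) * s₀ * (g * g) by rw [K.gg, one_mul, mul_one],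
          show g * g * s₀ * (g * g) = g * (g * s₀ * g) * g by group, ← hs₁, e, mul_one, K.gg]
      exact conj_eq_one_iff.1 e')
    have hs₁B := K.cent_u T hs₁u
    obtain ⟨km, hkd, hkfix, hkc⟩ := exists_to_dT (K.FB.m s₁)
      (by rw [← K.FB.m_mul hs₁B hs₁B, hs₁2, K.FB.m_one])
      (fun e => hs₁ne (K.FB.two_three ((K.FB.m_one_iff hs₁B).1 e) hs₁2))
      (K.FB.act_of_fix hs₁B (by rw [K.vB1]; exact hs₁u))
    obtain ⟨j, hjB, rfl⟩ := K.FB.exists_lift hkd
    have hju : j * u = u * j := by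
      have := K.FB.fix_of_act hjB hkfix
      rwa [K.vB1] at this
    set s₂ := j * s₁ * j⁻¹ with hs₂
    have hs₂B : s₂ ∈ B := B.mul_mem (B.mul_mem hjB hs₁B) (B.inv_mem hjB)
    have hms₂ : K.FB.m s₂ = K.FB.m t := by
      have h1 : K.FB.m (j * s₁) = K.FB.m (t * j) := by
        rw [K.FB.m_mul hjB hs₁B, K.FB.m_mul K.tB hjB, K.mBt]; exact hkc
      have h2 := (K.FB.m_eq_iff (B.mul_mem hjB hs₁B) (B.mul_mem K.tB hjB)).1 h1
      refine (K.FB.m_eq_iff hs₂B K.tB).2 ?_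
      rwa [show s₂ * t⁻¹ = j * s₁ * (t * j)⁻¹ by rw [hs₂]; group]
    set o := s₂ * t with ho
    have hoO : o ∈ OB := by
      have h := (K.FB.m_eq_iff hs₂B K.tB).1 hms₂
      rwa [inv_eq_of_mul_eq_one_right K.tt] at h
    have hs₂e : s₂ = o * t := by rw [ho, mul_assoc, K.tt, mul_one]
    have hs₂2 : s₂ * s₂ = 1 := by
      rw [hs₂, show j * s₁ * j⁻¹ * (j * s₁ * j⁻¹) = j * (s₁ * s₁) * j⁻¹ by group, hs₁2, mul_one,
        mul_inv_cancel]
    have hot : t * o * t = o⁻¹ := by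
      refine eq_inv_of_mul_eq_one_right ?_
      calc o * (t * o * t) = (o * t) * (o * t) := by group
        _ = 1 := by rw [← hs₂e, hs₂2]
    clear_value s₁ s₂ o
    refine ⟨(o * o)⁻¹ * j * g * k, ?_, ?_⟩
    · have e1 : (o * o)⁻¹ * j * g * k * s * ((o * o)⁻¹ * j * g * k)⁻¹ = (o * o)⁻¹ * s₂ * (o * o) := by
        rw [hs₂, hs₁, hs₀,
          show g * (k * s * k⁻¹) * g = g * (k * s * k⁻¹) * g⁻¹ by rw [K.gi]]
        simp only [mul_assoc, mul_inv_rev, inv_inv]
      have e2 : t * (o * o) * t = o⁻¹ * o⁻¹ := by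
        rw [← hot, show t * o * t * (t * o * t) = t * o * (t * t) * o * t by group, K.tt, mul_one]
        group
      rw [e1, hs₂e]
      calc (o * o)⁻¹ * (o * t) * (o * o) = (o * o)⁻¹ * o * (t * (o * o) * t) * (t⁻¹) := by group
        _ = (o * o * o)⁻¹ * t⁻¹ := by rw [e2]; group
        _ = t := by rw [K.FB.cube hoO, inv_one, one_mul, inv_eq_of_mul_eq_one_right K.tt]
    · have hy₁ : Commute (g * y₀ * g) u := by
        show g * y₀ * g * u = u * (g * y₀ * g)
        rw [← K.gzg, hggm, hggm, hzc _ hy₀S]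
      have hou : Commute (o * o)⁻¹ u :=
        ((show Commute o u from K.FB.mem_comm hoO K.u_OB).mul_left
          (K.FB.mem_comm hoO K.u_OB)).inv_left
      have hcj : Commute ((o * o)⁻¹ * j) u := hou.mul_left hju
      have e1 : (o * o)⁻¹ * j * g * k * y * ((o * o)⁻¹ * j * g * k)⁻¹ =
          ((o * o)⁻¹ * j) * (g * y₀ * g) * ((o * o)⁻¹ * j)⁻¹ := by
        rw [hy₀, mul_inv_rev ((o * o)⁻¹ * j * g) k, mul_inv_rev ((o * o)⁻¹ * j) g, K.gi]; group
      rw [e1]
      exact ((hcj.mul_left hy₁).mul_left hcj.inv_left).eq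
  · -- `s₀` inverts `z`: impossible
    exfalso
    obtain ⟨hsA, hsB⟩ := hsN
    set w' := K.FA.vec (0, 1) with hw'
    have hw'A : w' ∈ OA := K.FA.vec_mem _
    have hy₀A' : y₀ ∉ OA := fun h => hU₀ (K.uType_OA h hy₀1)
    have hy₀B' : y₀ ∉ OB := fun h => hU₀ (K.uType_OB h hy₀1)
    have hm1 : act (K.FA.m s₀) (1, 0) = (2, 0) := by
      have h := K.FA.conj_vec hsA (1, 0)
      rw [K.vA, hs₀i, ← hv₀, e] at h
      have h2 : z⁻¹ = K.FA.vec (2, 0) :=
        ((congrArg (·⁻¹) K.vA).symm.trans (K.FA.vec_inv (1, 0))).trans (congrArg K.FA.vec neg_e1)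
      exact (K.FA.vec_inj (h2.symm.trans h)).symm
    have hy2 : y₀ * y₀ = y₀⁻¹ := eq_inv_of_mul_eq_one_left hy₀3
    have cube_m : ∀ {H O : Subgroup G} (F : Frame H O) {x}, x ∈ H → x * x * x = 1 →
        mul4 (F.m x) (mul4 (F.m x) (F.m x)) = one4 := fun F x hx h => by
      rw [← F.m_mul hx hx, ← F.m_mul hx (Subgroup.mul_mem _ hx hx), ← mul_assoc, h, F.m_one]
    have inv_m : ∀ {H O : Subgroup G} (F : Frame H O), s₀ ∈ H → y₀ ∈ H →
        mul4 (F.m s₀) (mul4 (F.m y₀) (F.m s₀)) = mul4 (F.m y₀) (F.m y₀) := fun F h1 h2 => by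
      rw [← F.m_mul h2 h1, ← F.m_mul h1 (Subgroup.mul_mem _ h2 h1), ← mul_assoc, hsy₀, ← hy2,
        F.m_mul h2 h2]
    have hfixA : act (K.FA.m y₀) (1, 0) = (1, 0) :=
      K.FA.act_of_fix hy₀A (by rw [K.vA]; exact (hzc _ hy₀S).symm)
    have h2 := M4Facts.inv_cent _ (by rw [← K.FA.m_mul hsA hsA, hs₀2, K.FA.m_one]) hm1 _
      (cube_m K.FA hy₀A hy₀3) hfixA (fun e => hy₀A' ((K.FA.m_one_iff hy₀A).1 e)) (inv_m K.FA hsA hy₀A)
    have hsw : ∃ c ∈ Z, s₀ * w' * s₀ = c * w' := by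
      have h := K.FA.conj_vec hsA (0, 1)
      rw [hs₀i] at h
      obtain ⟨c1, c2, hc⟩ : ∃ c1 c2, act (K.FA.m s₀) (0, 1) = (c1, c2) := ⟨_, _, rfl⟩
      rw [hc] at h h2
      have e2 : c2 = 1 := h2
      subst e2
      refine ⟨K.FA.vec (c1, 0), ?_, ?_⟩
      · rcases zmod_three_cases c1 with rfl | rfl | rfl
        · rw [show K.FA.vec (0, 0) = 1 from K.FA.vec_zero]; exact Z.one_mem
        · rw [K.vA]; exact K.z_mem
        · rw [show ((-1, 0) : ZMod 3 × ZMod 3) = -(1, 0) by simp, ← K.FA.vec_inv, K.vA]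
          exact Z.inv_mem K.z_mem
      · rw [h, hw', ← K.FA.vec_add]; simp
    obtain ⟨c, hc, hsw⟩ := hsw
    have hw'S := T.OA_S hw'A
    have hw'B := T.S_B hw'S
    have hfixB : ∀ {x}, x ∈ S → x ∈ B → act (K.FB.m x) (0, 1) = (0, 1) := fun hx hxB =>
      K.FB.act_of_fix hxB (by rw [K.vB2]; exact (hzc _ hx).symm)
    have h4 := M4Facts.inv_low _ (cube_m K.FB hy₀B hy₀3) (hfixB hy₀S hy₀B)
      (fun e => hy₀B' ((K.FB.m_one_iff hy₀B).1 e)) _ (cube_m K.FB hw'B (K.FA.cube hw'A))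
      (hfixB hw'S hw'B) _ (by rw [← K.FB.m_mul hsB hsB, hs₀2, K.FB.m_one]) (inv_m K.FB hsB hy₀B)
    rw [← K.FB.m_mul hw'B hsB, ← K.FB.m_mul hsB (B.mul_mem hw'B hsB), ← mul_assoc, hsw,
      K.FB.m_mul (T.sB.le (T.Z_le hc).2) hw'B,
      (K.FB.m_one_iff (T.sB.le (T.Z_le hc).2)).2 (T.Z_le hc).2] at h4
    have hone : K.FB.m w' = one4 := by
      exact one_mul_sq _ (K.FB.m_det hw'B) h4
    have hwZ : w' ∈ Z := by
      rw [T.inter_card.2]; exact ⟨hw'A, (K.FB.m_one_iff hw'B).1 hone⟩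
    rcases K.Z_cases hwZ with h | h | h
    · exact absurd (K.FA.vec_eq_one.1 h) e2_ne.1
    · exact absurd (K.FA.vec_inj (h.trans K.vA.symm)) e2_ne.2.1
    · exact absurd (K.FA.vec_inj (h.trans ((congrArg (·⁻¹) K.vA).symm.trans (K.FA.vec_inv _))))
        e2_ne.2.2

theorem oddHyp : OddHyp t r u where
  cu3 := fun _ h1 h2 h3 => K.cu3 T h1 h2 h3
  yfix := fun _ _ a b c d e f h => K.yfix T a b c d e f h
  yu := fun _ a b c d e x h1 h2 => K.yu T a b c d e x h1 h2

/-- The two possible centralisers. -/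
theorem shape :
    Nonempty (Subgroup.centralizer ({t} : Set G) ≃* GL (Fin 2) (ZMod 3)) ∨
    ∃ u₀ : ↥Cfsg.Spor.M12, Cfsg.IsTwoCentralInvolution u₀ ∧
      Nonempty (Subgroup.centralizer ({t} : Set G) ≃*
        ↥(Subgroup.centralizer ({u₀} : Set ↥Cfsg.Spor.M12))) :=
  (K.hyp T).cent_shape (K.oddHyp T)

end Coords

end Cfsg.Agent.Lib.ThreeLocal66.Amalgam
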