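import Cfsg.Agent.Lib.ThreeLocal66.Amalgam.Coords
import Cfsg.Agent.Lib.ThreeLocal66.OddTwo

/-!
# The amalgam satisfies the three-local hypotheses
-/

namespace Cfsg.Agent.Lib.ThreeLocal66.Amalgam

open Subgroup
open Cfsg.Agent.Lib.Suborbit46.GL23

variable {G : Type*} [Group G] [Finite G] {A B OA OB Z S : Subgroup G} {t r u q g z w : G}

theorem act_one4 : ∀ v, act one4 v = v := by decide

theorem uType_inv {u y : G} : UType u y⁻¹ → UType u y := by
  rintro ⟨k, h | h⟩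
  · exact ⟨k, Or.inr (by rw [← h]; group)⟩
  · exact ⟨k, Or.inl (by rw [← inv_inv u, ← h]; group)⟩

namespace Coords

variable (K : Coords A B OA OB Z t r u q g z w) (T : Setting A B OA OB Z S)
include K T

omit [Finite G] T in
theorem gi : g⁻¹ = g := inv_eq_of_mul_eq_one_right K.gg

omit [Finite G] T in
theorem u_OB : u ∈ OB := by rw [← K.vB1]; exact K.FB.vec_mem _

omit [Finite G] T in
theorem z_OB : z ∈ OB := by rw [← K.vB2]; exact K.FB.vec_mem _

omit [Finite G] T in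
theorem z_OA : z ∈ OA := by rw [← K.vA]; exact K.FA.vec_mem _

omit [Finite G] T in
theorem u_ne : u ≠ 1 := fun h => K.u_notA (h ▸ OA.one_mem)

omit [Finite G] T in
theorem u_three : u * u * u = 1 := K.FB.cube K.u_OB

omit [Finite G] T in
theorem grg : g * r * g = t := by
  rw [← K.gtg, show g * (g * t * g) * g = (g * g) * t * (g * g) by group, K.gg, one_mul, mul_one]

omit [Finite G] T in
theorem gzg : g * z * g = u := by
  rw [← K.gug, show g * (g * u * g) * g = (g * g) * u * (g * g) by group, K.gg, one_mul, mul_one]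

omit [Finite G] in
theorem cent_z {x : G} (h : x * z = z * x) : x ∈ A ∧ x ∈ B := T.cent_Z K.Z_eq h

omit [Finite G] in
theorem cent_u {x : G} (h : x * u = u * x) : x ∈ B := by
  have hc : (g * x * g) * z = z * (g * x * g) := by
    rw [← K.gug, show g * x * g * (g * u * g) = g * x * (g * g) * u * g by group, K.gg, mul_one,
      show g * u * g * (g * x * g) = g * u * (g * g) * x * g by group, K.gg, mul_one, mul_assoc g x u,
      h, ← mul_assoc g u x]
  have := B.mul_mem (B.mul_mem K.gB (K.cent_z T hc).2) K.gB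
  rwa [show g * (g * x * g) * g = (g * g) * x * (g * g) by group, K.gg, one_mul, mul_one] at this

omit [Finite G] T in
theorem to_u {v : G} (hv : v ∈ OB) (h1 : v ≠ 1) : ∃ h ∈ B, h * v * h⁻¹ = u := by
  obtain ⟨a, rfl⟩ := K.FB.vec_surj v hv
  obtain ⟨m, hm, hma⟩ := M4Facts.exists_to_e1 a fun h => h1 (h ▸ K.FB.vec_zero)
  obtain ⟨h, hh, hhm⟩ := K.FB.exists_lift hm
  exact ⟨h, hh, by rw [K.FB.conj_vec hh, hhm, hma, K.vB1]⟩

omit [Finite G] in
theorem cent_B {v x : G} (hv : v ∈ OB) (h1 : v ≠ 1) (hx : x * v = v * x) : x ∈ B := by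
  obtain ⟨h, hh, e⟩ := K.to_u hv h1
  have hc : h * x * h⁻¹ * u = u * (h * x * h⁻¹) := by
    rw [← e, show h * x * h⁻¹ * (h * v * h⁻¹) = h * (x * v) * h⁻¹ by group, hx]; group
  have := B.mul_mem (B.mul_mem (B.inv_mem hh) (K.cent_u T hc)) hh
  rwa [show h⁻¹ * (h * x * h⁻¹) * h = x by group] at this

omit [Finite G] T in
theorem uType_OB {v : G} (hv : v ∈ OB) (h1 : v ≠ 1) : UType u v := by
  obtain ⟨h, -, e⟩ := K.to_u hv h1
  exact ⟨h, Or.inl e⟩

omit [Finite G] T in
theorem uType_OA {v : G} (hv : v ∈ OA) (h1 : v ≠ 1) : UType u v := by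
  obtain ⟨a, rfl⟩ := K.FA.vec_surj v hv
  obtain ⟨m, hm, hma⟩ := M4Facts.exists_to_e1 a fun h => h1 (h ▸ K.FA.vec_zero)
  obtain ⟨h, hh, hhm⟩ := K.FA.exists_lift hm
  refine ⟨g * h, Or.inl ?_⟩
  rw [show g * h * K.FA.vec a * (g * h)⁻¹ = g * (h * K.FA.vec a * h⁻¹) * g⁻¹ by group,
    K.FA.conj_vec hh, hhm, hma, K.vA, K.gi, K.gzg]

omit [Finite G] in
/-- The pair lemma. -/
theorem pair {v a b : G} (hv : v ∈ OB) (h1 : v ≠ 1) (ha : a * a = 1) (hb : b * b = 1) (ha1 : a ≠ 1)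
    (hb1 : b ≠ 1) (hab : a * b = b * a) (hav : a * v = v * a) (hbv : b * v = v * b) : a = b := by
  have haB := K.cent_B T hv h1 hav
  have hbB := K.cent_B T hv h1 hbv
  obtain ⟨c, rfl⟩ := K.FB.vec_surj v hv
  have key : ∀ {x}, x ∈ B → x * x = 1 → x ≠ 1 →
      mul4 (K.FB.m x) (K.FB.m x) = one4 ∧ K.FB.m x ≠ one4 := fun hx h2 hne =>
    ⟨by rw [← K.FB.m_mul hx hx, h2, K.FB.m_one],
      fun e => hne (K.FB.two_three ((K.FB.m_one_iff hx).1 e) h2)⟩
  obtain ⟨a1, a2⟩ := key haB ha ha1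
  obtain ⟨b1, b2⟩ := key hbB hb hb1
  have e := M4Facts.pair_eq c (fun h => h1 (h ▸ K.FB.vec_zero)) _ a1 a2 (K.FB.act_of_fix haB hav)
    _ b1 b2 (K.FB.act_of_fix hbB hbv) (by rw [← K.FB.m_mul haB hbB, ← K.FB.m_mul hbB haB, hab])
  have h := (K.FB.m_eq_iff haB hbB).1 e
  rw [inv_eq_of_mul_eq_one_right hb] at h
  exact (mul_eq_one_iff_eq_inv.1 (K.FB.two_three h (by
    rw [(show Commute b a from hab.symm).mul_mul_mul_comm, ha, hb, mul_one]))).trans
      (inv_eq_of_mul_eq_one_right hb)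

omit [Finite G] in
theorem cu {x : G} (hxt : x * t = t * x) (hxu : x * u = u * x) :
    ∃ e, (e = 1 ∨ e = u ∨ e = u⁻¹) ∧ (x = e ∨ x = e * t) := by
  have hxB := K.cent_u T hxu
  have hfix : ∀ y ∈ OB, y * t = t * y → y = 1 ∨ y = u ∨ y = u⁻¹ := by
    intro y hy hyt
    obtain ⟨⟨a, b⟩, rfl⟩ := K.FB.vec_surj y hy
    have e := K.FB.act_of_fix K.tB hyt.symm
    rw [K.mBt] at e
    have hab : b = 0 := (by decide : ∀ a b : ZMod 3, act dT (a, b) = (a, b) → b = 0) a b e
    subst hab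
    rcases (by decide : ∀ c : ZMod 3, c = 0 ∨ c = 1 ∨ c = -1) a with rfl | rfl | rfl
    · exact Or.inl K.FB.vec_zero
    · exact Or.inr (Or.inl K.vB1)
    · exact Or.inr (Or.inr ((K.FB.vec_inv (1, 0)).symm.trans (congrArg (·⁻¹) K.vB1)))
  have hm := M4Facts.cu_facts (K.FB.m x) (K.FB.m_det hxB)
    (K.FB.act_of_fix hxB (by rw [K.vB1]; exact hxu))
    (by rw [← K.mBt, ← K.FB.m_mul hxB K.tB, ← K.FB.m_mul K.tB hxB, hxt])
  rcases hm with h | h
  · exact ⟨x, hfix x ((K.FB.m_one_iff hxB).1 h) hxt, Or.inl rfl⟩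
  · have hO := (K.FB.m_eq_iff hxB K.tB).1 (h.trans K.mBt.symm)
    rw [inv_eq_of_mul_eq_one_right K.tt] at hO
    exact ⟨x * t, hfix _ hO ((show Commute x t from hxt).mul_left (Commute.refl t)).eq,
      Or.inr (by rw [mul_assoc, K.tt, mul_one])⟩

omit [Finite G] in
theorem hyp : Hyp t r u q g where
  tt := K.tt
  t_ne := K.t_ne
  rr := K.rr
  rt := K.rt
  uuu := K.u_three
  u_ne := K.u_ne
  ut := K.ut
  rur := K.rur
  gtr := by rw [K.gi]; exact K.gtg
  grt := by rw [K.gi]; exact K.grg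
  qq := K.qq
  rqr := K.rqr
  qv := K.qv
  qn := K.qn
  gu := by rw [K.gi, K.gug]; exact K.FB.mem_comm K.z_OB K.u_OB
  cu := fun x h1 h2 => K.cu T h1 h2
  hQ := by
    rw [K.gi, K.gug]
    intro a ha hau haz
    have haB := K.cent_u T hau
    refine K.FB.two_three ((K.FB.m_one_iff haB).1 (M4Facts.fix_two _ ?_ ?_)) ha
    · exact K.FB.act_of_fix haB (by rw [K.vB1]; exact hau)
    · exact K.FB.act_of_fix haB (by rw [K.vB2]; exact haz)
  pairW := by
    rw [K.gi, K.gug]
    intro v hv a b ha hb ha1 hb1 hab hav hbv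
    have h1 : K.FB.vec (1, 1) = z * u := by
      have e : K.FB.vec (1, 1) = K.FB.vec (0, 1) * K.FB.vec (1, 0) := by
        rw [← K.FB.vec_add]; rfl
      rw [e, K.vB1, K.vB2]
    have h2 : K.FB.vec (1, 2) = z⁻¹ * u := by
      have e : K.FB.vec (1, 2) = (K.FB.vec (0, 1))⁻¹ * K.FB.vec (1, 0) := by
        rw [K.FB.vec_inv, ← K.FB.vec_add]; rfl
      rw [e, K.vB1, K.vB2]
    rcases hv with rfl | rfl
    · exact K.pair T (h1 ▸ K.FB.vec_mem _)
        (fun e => absurd (K.FB.vec_eq_one.1 (h1.trans e)) (by decide)) ha hb ha1 hb1 hab hav hbv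
    · exact K.pair T (h2 ▸ K.FB.vec_mem _)
        (fun e => absurd (K.FB.vec_eq_one.1 (h2.trans e)) (by decide)) ha hb ha1 hb1 hab hav hbv

theorem cu3 {x : G} (hxu : x * u = u * x) (ho : Odd (orderOf x)) (h3 : ¬ 3 ∣ orderOf x) : x = 1 := by
  have hd := orderOf_dvd_natCard B (K.cent_u T hxu)
  rw [T.sB.card] at hd
  have hc : Nat.Coprime (orderOf x) 432 := by
    rw [show (432 : ℕ) = 2 ^ 4 * 3 ^ 3 by norm_num]
    exact ((Nat.coprime_two_right.2 ho).pow_right 4).mul_right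
      (((Nat.prime_three.coprime_iff_not_dvd).2 h3).symm.pow_right 3)
  exact orderOf_eq_one_iff.1 (Nat.eq_one_of_dvd_coprimes hc dvd_rfl hd)

theorem yu {y : G} (hy3 : y ^ 3 = 1) (hy1 : y ≠ 1) (hU : ¬ UType u y) (hyu : y * u = u * y)
    (hty : t * y * t = y⁻¹) (x : G) (hxy : x * y = y * x)
    (hxr : x * (r * y * r) = (r * y * r) * x) : x * u = u * x := by
  have hy3' : y * y * y = 1 := by rw [← hy3, pow_succ, pow_two]
  have hyB := K.cent_u T hyu
  set m := K.FB.m y with hm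
  have hm3 : mul4 m (mul4 m m) = one4 := by
    rw [hm, ← K.FB.m_mul hyB hyB, ← K.FB.m_mul hyB (B.mul_mem hyB hyB), ← mul_assoc, hy3',
      K.FB.m_one]
  have hmfix : act m (1, 0) = (1, 0) := K.FB.act_of_fix hyB (by rw [K.vB1]; exact hyu)
  have hm1 : m ≠ one4 := fun e => hU (K.uType_OB ((K.FB.m_one_iff hyB).1 e) hy1)
  set y' := r * y * r with hy'
  have hy'B : y' ∈ B := B.mul_mem (B.mul_mem K.rB hyB) K.rB
  have hoO : y' * y ∈ OB := by
    refine (K.FB.m_one_iff (B.mul_mem hy'B hyB)).1 ?_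
    rw [K.FB.m_mul hy'B hyB, hy', mul_assoc r y r, K.FB.m_mul K.rB (B.mul_mem hyB K.rB),
      K.FB.m_mul hyB K.rB, K.mBr, (M4Facts.transv_flip m hm3 hmfix).2,
      ← K.FB.m_mul hyB hyB, ← K.FB.m_mul (B.mul_mem hyB hyB) hyB, hy3', K.FB.m_one]
  obtain ⟨⟨a, b⟩, hab⟩ := K.FB.vec_surj _ hoO
  by_cases hb : b = 0
  · -- then `r` inverts `y`, so `y` is a conjugate of `u`
    exfalso
    subst hb
    have hoy : Commute (y' * y) y := by
      rw [← hab]
      have hfix := (K.FB.fix_of_act hyB (v := (1, 0)) hmfix).symm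
      rcases (by decide : ∀ c : ZMod 3, c = 0 ∨ c = 1 ∨ c = 2) a with rfl | rfl | rfl
      · rw [K.FB.vec_zero]; exact Commute.one_left y
      · exact hfix
      · rw [show K.FB.vec (2, 0) = K.FB.vec (1, 0) * K.FB.vec (1, 0) by rw [← K.FB.vec_add]; rfl]
        exact (show Commute _ y from hfix).mul_left hfix
    have hcomm : Commute y' y := by
      have h := hoy.mul_left (Commute.refl y).inv_left
      rwa [mul_inv_cancel_right] at h
    have hto : t * (y' * y) * t = y' * y := by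
      rw [← hab]
      have := K.FB.conj_vec K.tB (a, 0)
      rw [inv_eq_of_mul_eq_one_right K.tt, K.mBt,
        (by decide : ∀ c : ZMod 3, act dT (c, 0) = (c, 0)) a] at this
      exact this
    have hty' : t * y' * t = y'⁻¹ := by
      have hri : r⁻¹ = r := inv_eq_of_mul_eq_one_right K.rr
      calc t * (r * y * r) * t = (t * r) * y * (r * t) := by group
        _ = (r * t) * y * (t * r) := by rw [K.rt]
        _ = r * (t * y * t) * r := by group
        _ = (r * y * r)⁻¹ := by rw [hty, mul_inv_rev, mul_inv_rev, hri, ← mul_assoc]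
    have ho2 : y' * y = (y' * y)⁻¹ := by
      calc y' * y = t * (y' * y) * t := hto.symm
        _ = (t * y' * (t * t) * y * t) := by rw [K.tt]; group
        _ = (t * y' * t) * (t * y * t) := by group
        _ = (y' * y)⁻¹ := by rw [hty', hty, ← mul_inv_rev, hcomm.eq]
    have ho1 : y' * y = 1 :=
      K.FB.two_three hoO (mul_eq_one_iff_eq_inv.2 ho2)
    have hry : r * y * r = y⁻¹ := mul_eq_one_iff_eq_inv.1 ho1
    -- compare with `g w g`
    set y₁ := g * w * g with hy₁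
    have hy₁u : y₁ * u = u * y₁ := by
      rw [hy₁, ← K.gzg, show g * w * g * (g * z * g) = g * w * (g * g) * z * g by group, K.gg,
        mul_one, show g * z * g * (g * w * g) = g * z * (g * g) * w * g by group, K.gg, mul_one,
        mul_assoc g w z, K.FA.mem_comm K.w_mem K.z_OA, ← mul_assoc g z w]
    have hy₁B := K.cent_u T hy₁u
    have hgg' : ∀ a b : G, g * a * g * (g * b * g) = g * (a * b) * g := fun a b => by
      rw [show g * a * g * (g * b * g) = g * a * (g * g) * b * g by group, K.gg, mul_one]; group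
    have hginv : g * w⁻¹ * g = y₁⁻¹ := by
      refine eq_inv_of_mul_eq_one_right ?_
      rw [hy₁, hgg', mul_inv_cancel, mul_one, K.gg]
    have hwinv : t * w * t = w⁻¹ := K.FA.minus_conj K.tA K.mAt K.tt K.w_mem
    have ht₁ : t * y₁ * t = y₁⁻¹ := by
      rw [← hginv, ← K.grg, hy₁, hgg', hgg', K.rwr]
    have hr₁ : r * y₁ * r = y₁⁻¹ := by
      rw [← hginv, ← K.gtg, hy₁, hgg', hgg', hwinv]
    have hy₁3 : y₁ * y₁ * y₁ = 1 := by
      rw [hy₁, hgg', hgg', K.FA.cube K.w_mem, mul_one, K.gg]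
    have hw1 : w ≠ 1 := fun e => K.w_notZ (e ▸ Z.one_mem)
    have hy₁1 : y₁ ≠ 1 := fun e => hw1 (by
      have e' : g * y₁ * g = w := by
        rw [hy₁, show g * (g * w * g) * g = (g * g) * w * (g * g) by group, K.gg, one_mul, mul_one]
      rw [← e', e, mul_one, K.gg])
    -- the involution inverting `OB`
    have hrtB : r * t ∈ B := B.mul_mem K.rB K.tB
    have hmrt : K.FB.m (r * t) = neg4 := by
      rw [K.FB.m_mul K.rB K.tB, K.mBr, K.mBt]; decide
    have hrt2 : r * t * (r * t) = 1 := by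
      rw [(show Commute t r from K.rt.symm).mul_mul_mul_comm, K.rr, K.tt, mul_one]
    have hcrt : ∀ {v}, t * v * t = v⁻¹ → r * v * r = v⁻¹ → v * (r * t) = r * t * v := by
      intro v h1 h2
      have e : (r * t) * v * (r * t) = v := by
        calc (r * t) * v * (r * t) = r * t * v * (t * r) := by rw [K.rt]
          _ = r * (t * v * t) * r := by group
          _ = (r⁻¹ * v * r⁻¹)⁻¹ := by rw [h1]; group
          _ = v := by rw [inv_eq_of_mul_eq_one_right K.rr, h2, inv_inv]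
      nth_rewrite 2 [← e]
      rw [show r * t * (r * t * v * (r * t)) = (r * t * (r * t)) * v * (r * t) by group, hrt2, one_mul]
    have hm₁1 : K.FB.m y₁ ≠ one4 := fun e =>
      hy₁1 (K.FB.minus_fixed hrtB hmrt hrt2 ((K.FB.m_one_iff hy₁B).1 e) (hcrt ht₁ hr₁))
    have hm₁3 : mul4 (K.FB.m y₁) (mul4 (K.FB.m y₁) (K.FB.m y₁)) = one4 := by
      rw [← K.FB.m_mul hy₁B hy₁B, ← K.FB.m_mul hy₁B (B.mul_mem hy₁B hy₁B), ← mul_assoc, hy₁3,
        K.FB.m_one]
    have hyc := hcrt hty hry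
    have hy₁c := hcrt ht₁ hr₁
    have hUy₁ : UType u y₁ := by
      obtain ⟨k, hk⟩ := K.uType_OA K.w_mem hw1
      exact ⟨k * g, by
        rwa [hy₁, show k * g * (g * w * g) * (k * g)⁻¹ = k * (g * g) * w * (g * g⁻¹) * k⁻¹ by group,
          K.gg, mul_one, mul_inv_cancel, mul_one]⟩
    rcases M4Facts.transv _ hm₁3 (K.FB.act_of_fix hy₁B (by rw [K.vB1]; exact hy₁u)) hm₁1 m hm3 hmfix
      hm1 with e | e
    · exact hU (K.FB.minus_unique hrtB hmrt hrt2 hyB hy₁B hyc hy₁c e ▸ hUy₁)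
    · refine hU (uType_inv ?_)
      rw [← K.FB.m_mul hy₁B hy₁B] at e
      rw [K.FB.minus_unique hrtB hmrt hrt2 hyB (B.mul_mem hy₁B hy₁B) hyc
        ((show Commute y₁ _ from hy₁c).mul_left hy₁c).eq e, inv_eq_of_mul_eq_one_right hy₁3]
      exact hUy₁
  · -- the commutator of `y' y` and `y` generates `⟨u⟩`
    have hxo : Commute x (y' * y) := (show Commute x y' from hxr).mul_right hxy
    have e : y * (y' * y) * y⁻¹ * (y' * y)⁻¹ = u ∨ y * (y' * y) * y⁻¹ * (y' * y)⁻¹ = u⁻¹ := by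
      rw [← hab, K.FB.conj_vec hyB, ← hm, K.FB.vec_inv, ← K.FB.vec_add]
      rcases M4Facts.transv_move m hm3 hmfix hm1 (a, b) hb with h | h <;> rw [h]
      · left
        refine Eq.trans ?_ K.vB1
        congr 1; simp
      · right
        refine Eq.trans ?_ ((K.FB.vec_inv (1, 0)).symm.trans (congrArg (·⁻¹) K.vB1))
        congr 1; simp; decide
    have hc : Commute x (y * (y' * y) * y⁻¹ * (y' * y)⁻¹) :=
      (((show Commute x y from hxy).mul_right hxo).mul_right
        (show Commute x y from hxy).inv_right).mul_right hxo.inv_right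
    rcases e with e | e <;> rw [e] at hc
    · exact hc.eq
    · exact (inv_inv u ▸ hc.inv_right :)

end Coords

end Cfsg.Agent.Lib.ThreeLocal66.Amalgam
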